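import Mathlib.CategoryTheory.MorphismProperty.OverAdjunction
import Mathlib.CategoryTheory.Limits.Shapes.Pullback.Pasting

/-! Associativity of the comparison maps for base change of objects with a property. -/

set_option autoImplicit false
set_option backward.isDefEq.respectTransparency false
set_option backward.defeqAttrib.useBackward true

universe v u

open CategoryTheory CategoryTheory.Limits

noncomputable section

namespace Groth.Agent.EtDesc24

variable {T : Type u} [Category.{v} T] [HasPullbacks T] (P : MorphismProperty T) [P.IsStableUnderBaseChange]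

theorem congr_inv_fst {X Y : T} {f g : X ⟶ Y} (h : f = g) (A : P.Over ⊤ Y) :
    ((MorphismProperty.Over.pullbackCongr (P := P) (Q := ⊤) h).inv.app A).left ≫
      pullback.fst A.hom f = pullback.fst A.hom g := by
  subst h; simp [MorphismProperty.Over.pullbackCongr]

theorem congr_inv_snd {X Y : T} {f g : X ⟶ Y} (h : f = g) (A : P.Over ⊤ Y) :
    ((MorphismProperty.Over.pullbackCongr (P := P) (Q := ⊤) h).inv.app A).left ≫
      pullback.snd A.hom f = pullback.snd A.hom g := by
  subst h; simp [MorphismProperty.Over.pullbackCongr]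

theorem pullback_assoc {A B C D : T} (f : A ⟶ B) (g : B ⟶ C) (h : C ⟶ D) {e₁ : B ⟶ D} {e₂ : A ⟶ C}
    {e₃ : A ⟶ D} (w₁ : g ≫ h = e₁) (w₂ : f ≫ g = e₂) (w₃ : f ≫ e₁ = e₃) (w₄ : e₂ ≫ h = e₃) (W : P.Over ⊤ D) :
    (MorphismProperty.Over.pullbackCongr (P := P) (Q := ⊤) w₃).inv.app W ≫
      (MorphismProperty.Over.pullbackComp (P := P) (Q := ⊤) f e₁).hom.app W ≫
        (MorphismProperty.Over.pullback P ⊤ f).map
          ((MorphismProperty.Over.pullbackCongr (P := P) (Q := ⊤) w₁).inv.app W) ≫
          (MorphismProperty.Over.pullback P ⊤ f).map ((MorphismProperty.Over.pullbackComp g h).hom.app W) =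
    (MorphismProperty.Over.pullbackCongr (P := P) (Q := ⊤) w₄).inv.app W ≫
      (MorphismProperty.Over.pullbackComp (P := P) (Q := ⊤) e₂ h).hom.app W ≫
        (MorphismProperty.Over.pullbackCongr (P := P) (Q := ⊤) w₂).inv.app
          ((MorphismProperty.Over.pullback P ⊤ h).obj W) ≫
          (MorphismProperty.Over.pullbackComp f g).hom.app ((MorphismProperty.Over.pullback P ⊤ h).obj W) := by
  subst w₁ w₂ w₃
  refine MorphismProperty.Over.Hom.ext ?_
  apply pullback.hom_ext
  · apply pullback.hom_ext
    · apply pullback.hom_ext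
      · simp [congr_inv_fst, congr_inv_snd, MorphismProperty.Over.pullbackCongr]
      · simp [congr_inv_fst, congr_inv_snd, MorphismProperty.Over.pullbackCongr]
    · simp [congr_inv_fst, congr_inv_snd, MorphismProperty.Over.pullbackCongr]
  · simp [congr_inv_fst, congr_inv_snd, MorphismProperty.Over.pullbackCongr]

end Groth.Agent.EtDesc24
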