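import Groth.Agent.Lib.EtStalk.HpullComp
import Groth.Agent.Lib.EtDesc24.OverAssoc
import Mathlib.CategoryTheory.Adjunction.CompositionIso
import Mathlib.Algebra.Homology.DerivedCategory.Ext.Map
import Mathlib.Algebra.Homology.DerivedCategory.Ext.ExactSequences

/-! Étale cohomology of inverse images as a functor on schemes over a base. -/

universe w v v' u u'

open CategoryTheory CategoryTheory.Limits Opposite AlgebraicGeometry CategoryTheory.Abelian

set_option autoImplicit false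
set_option linter.style.haveILetI false
set_option backward.isDefEq.respectTransparency.types false

namespace Groth.Agent.EtDesc24

noncomputable section

section General

variable {A : Type u} [Category.{v} A] [Abelian A] [HasExt.{w} A] [EnoughInjectives A]
  {B : Type u'} [Category.{v'} B] [Abelian B] [HasExt.{w} B]
  (R R' : A ⥤ B) [R.Additive] [PreservesFiniteLimits R] [PreservesFiniteColimits R]
  [R'.Additive] [PreservesFiniteLimits R'] [PreservesFiniteColimits R'] (α : R ⟶ R')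

/-- Naturality of the maps of Ext groups in the exact functor. -/
theorem mapExt_nat : ∀ (n : ℕ) {X Y : A} (x : Ext X Y n),
    (x.mapExactFunctor R).comp (Ext.mk₀ (α.app Y)) (add_zero n) =
      (Ext.mk₀ (α.app X)).comp (x.mapExactFunctor R') (zero_add n)
  | 0, X, Y, x => by
    obtain ⟨f, rfl⟩ := (Ext.mk₀_bijective _ _).2 x
    rw [Ext.mapExactFunctor_mk₀, Ext.mapExactFunctor_mk₀, Ext.mk₀_comp_mk₀, Ext.mk₀_comp_mk₀]
    exact congrArg Ext.mk₀ (α.naturality f)
  | n + 1, X, Y, x => by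
    let S := ShortComplex.mk (Injective.ι Y) (cokernel.π (Injective.ι Y)) (cokernel.condition _)
    have hS : S.ShortExact := { exact := ShortComplex.exact_cokernel (Injective.ι Y) }
    haveI : Injective S.X₂ := inferInstanceAs (Injective (Injective.under Y))
    obtain ⟨y, rfl⟩ := Ext.covariant_sequence_exact₁ _ hS x (Ext.eq_zero_of_injective _) (n₀ := n) rfl
    rw [Ext.mapExactFunctor_comp, Ext.mapExactFunctor_comp]
    rw [Ext.mapExactFunctor_extClass R hS, Ext.mapExactFunctor_extClass R' hS]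
    let φ : S.map R ⟶ S.map R' :=
      { τ₁ := α.app S.X₁
        τ₂ := α.app S.X₂
        τ₃ := α.app S.X₃
        comm₁₂ := (α.naturality S.f).symm
        comm₂₃ := (α.naturality S.g).symm }
    have hn := ShortComplex.ShortExact.extClass_naturality (hS.map_of_exact R) (hS.map_of_exact R') φ
    have ih := mapExt_nat n y
    erw [Ext.comp_assoc_of_third_deg_zero, hn]
    erw [← Ext.comp_assoc_of_second_deg_zero, ih]
    exact Ext.comp_assoc _ _ _ (zero_add n) rfl (by lia)

/-- The identity functor acts identically on Ext groups. -/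
theorem mapExt_id : ∀ (n : ℕ) {X Y : A} (x : Ext X Y n), x.mapExactFunctor (𝟭 A) = x
  | 0, X, Y, x => by
    obtain ⟨f, rfl⟩ := (Ext.mk₀_bijective _ _).2 x
    rw [Ext.mapExactFunctor_mk₀]
    rfl
  | n + 1, X, Y, x => by
    let S := ShortComplex.mk (Injective.ι Y) (cokernel.π (Injective.ι Y)) (cokernel.condition _)
    have hS : S.ShortExact := { exact := ShortComplex.exact_cokernel (Injective.ι Y) }
    haveI : Injective S.X₂ := inferInstanceAs (Injective (Injective.under Y))
    obtain ⟨y, rfl⟩ := Ext.covariant_sequence_exact₁ _ hS x (Ext.eq_zero_of_injective _) (n₀ := n) rfl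
    rw [Ext.mapExactFunctor_comp, Ext.mapExactFunctor_extClass (𝟭 A) hS, mapExt_id n y]
    rfl

/-- Conjugation by isomorphisms on Ext groups. -/
def conj {X X' Y Y' : A} (a : X' ⟶ X) (b : Y ⟶ Y') (n : ℕ) : Ext X Y n →+ Ext X' Y' n :=
  AddMonoidHom.mk' (fun x => ((Ext.mk₀ a).comp x (zero_add n)).comp (Ext.mk₀ b) (add_zero n))
    fun x y => by rw [Ext.comp_add, Ext.add_comp]

omit [EnoughInjectives A] in
theorem conj_conj {X X' X'' Y Y' Y'' : A} (a : X' ⟶ X) (a' : X'' ⟶ X') (b : Y ⟶ Y') (b' : Y' ⟶ Y'')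
    (n : ℕ) (x : Ext X Y n) : conj a' b' n (conj a b n x) = conj (a' ≫ a) (b ≫ b') n x := by
  simp only [conj, AddMonoidHom.mk'_apply, Ext.comp_assoc_of_third_deg_zero, Ext.comp_assoc_of_second_deg_zero,
    Ext.mk₀_comp_mk₀, ← Ext.comp_assoc _ _ _ (zero_add 0) (zero_add n) (show 0 + 0 + n = n by lia)]

omit [EnoughInjectives A] in
theorem conj_id {X Y : A} (n : ℕ) (x : Ext X Y n) : conj (𝟙 X) (𝟙 Y) n x = x := by
  simp [conj]

omit [EnoughInjectives A] in
theorem bijective_conj {X X' Y Y' : A} (a : X' ≅ X) (b : Y ≅ Y') (n : ℕ) :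
    Function.Bijective (conj a.hom b.hom n) := by
  refine Function.bijective_iff_has_inverse.2 ⟨conj a.inv b.inv n, fun x => ?_, fun x => ?_⟩
  · rw [conj_conj, a.inv_hom_id, b.hom_inv_id, conj_id]
  · rw [conj_conj, a.hom_inv_id, b.inv_hom_id, conj_id]

end General

variable {S : Scheme.{u}}

theorem isIso_fst_id {U X : Scheme.{u}} (h : U ⟶ X) : IsIso (pullback.fst h (𝟙 X)) := inferInstance

/-- Base change along the identity. -/
def bcId (X : Scheme.{u}) : EtCoh.bc (𝟙 X) ≅ 𝟭 X.Etale :=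
  NatIso.ofComponents (fun U => MorphismProperty.Over.isoMk
      (@asIso _ _ _ _ (pullback.fst U.hom (𝟙 X)) (isIso_fst_id U.hom)) (by
      exact pullback.condition.trans (Category.comp_id _)))
    (fun g => by refine MorphismProperty.Over.Hom.ext ?_; exact pullback.lift_fst _ _ _)

/-- Direct image along the identity. -/
def pushId (X : Scheme.{u}) : EtCoh.push (𝟙 X) ≅ 𝟭 (EtCoh.Ab X) :=
  Functor.sheafPushforwardContinuousId' (F'' := EtCoh.bc (𝟙 X)) (bcId X) AddCommGrpCat.{u + 1} X.smallEtaleTopology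

set_option backward.isDefEq.respectTransparency false in
theorem pushComp_assoc {A B C D : Scheme.{u}} (f : A ⟶ B) (g : B ⟶ C) (h : C ⟶ D) {e₁ : B ⟶ D} {e₂ : A ⟶ C}
    {e₃ : A ⟶ D} (w₁ : g ≫ h = e₁) (w₂ : f ≫ g = e₂) (w₃ : f ≫ e₁ = e₃) (w₄ : e₂ ≫ h = e₃) :
    Functor.isoWhiskerLeft (EtCoh.push f) (EtCoh.pushComp h g ≪≫ EtCoh.pushCongr w₁) ≪≫
      (EtCoh.pushComp e₁ f ≪≫ EtCoh.pushCongr w₃) =
    (Functor.associator _ _ _).symm ≪≫
      Functor.isoWhiskerRight (EtCoh.pushComp g f ≪≫ EtCoh.pushCongr w₂) (EtCoh.push h) ≪≫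
      (EtCoh.pushComp h e₂ ≪≫ EtCoh.pushCongr w₄) := by
  subst w₁ w₂ w₃
  refine Iso.ext (NatTrans.ext (funext fun G => ?_))
  apply ObjectProperty.hom_ext
  refine NatTrans.ext (funext fun W => ?_)
  simp [EtCoh.pushComp, EtCoh.pushCongr, Functor.sheafPushforwardContinuousComp',
    Functor.sheafPushforwardContinuousComp, Functor.sheafPushforwardContinuousIso,
    Functor.sheafPushforwardContinuousNatTrans]
  simp only [← Functor.map_comp, ← op_comp]
  congr 2
  exact pullback_assoc EtCoh.etaleMP f g h rfl rfl rfl w₄ (unop W)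

/-- Composition of inverse images. -/
def pullCompIso {a b : Over S} (g : a ⟶ b) : EtCoh.pull b.hom ⋙ EtCoh.pull g.left ≅ EtCoh.pull a.hom :=
  Adjunction.leftAdjointCompIso (EtCoh.pullPushAdj b.hom) (EtCoh.pullPushAdj g.left) (EtCoh.pullPushAdj a.hom)
    (EtCoh.pushComp b.hom g.left ≪≫ EtCoh.pushCongr (Over.w g))

theorem pullCompIso_comp {a b c : Over S} (g : a ⟶ b) (h : b ⟶ c) :
    ∃ β : EtCoh.pull h.left ⋙ EtCoh.pull g.left ≅ EtCoh.pull (g ≫ h).left,
      Functor.isoWhiskerLeft (EtCoh.pull c.hom) β ≪≫ pullCompIso (g ≫ h) =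
        (Functor.associator _ _ _).symm ≪≫ Functor.isoWhiskerRight (pullCompIso h) (EtCoh.pull g.left) ≪≫
          pullCompIso g := by
  refine ⟨Adjunction.leftAdjointCompIso (EtCoh.pullPushAdj h.left) (EtCoh.pullPushAdj g.left)
    (EtCoh.pullPushAdj (g ≫ h).left)
    (EtCoh.pushComp h.left g.left ≪≫ EtCoh.pushCongr (Over.comp_left ..).symm), ?_⟩
  exact Adjunction.leftAdjointCompIso_assoc (EtCoh.pullPushAdj c.hom) (EtCoh.pullPushAdj h.left)
    (EtCoh.pullPushAdj g.left) (EtCoh.pullPushAdj b.hom) (EtCoh.pullPushAdj (g ≫ h).left)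
    (EtCoh.pullPushAdj a.hom) _ _ _ _ (pushComp_assoc g.left h.left c.hom _ _ _ _)

variable (Z F : EtCoh.Ab S) (n : ℕ)

/-- `Ext(b⁻¹Z, b⁻¹F)`. -/
abbrev grpH (b : Over S) : Type (u + 1) := Ext ((EtCoh.pull b.hom).obj Z) ((EtCoh.pull b.hom).obj F) n

/-- The pullback maps. -/
def mapH {a b : Over S} (g : a ⟶ b) : grpH Z F n b →+ grpH Z F n a :=
  AddMonoidHom.mk' (fun x => conj ((pullCompIso g).inv.app Z) ((pullCompIso g).hom.app F) n
      (x.mapExactFunctor (EtCoh.pull g.left))) fun x y => by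
    simp only [Ext.mapExactFunctor_add, map_add]

theorem mapH_apply {a b : Over S} (g : a ⟶ b) (x : grpH Z F n b) : mapH Z F n g x =
    ((Ext.mk₀ ((pullCompIso g).inv.app Z)).comp (x.mapExactFunctor (EtCoh.pull g.left)) (zero_add n)).comp
      (Ext.mk₀ ((pullCompIso g).hom.app F)) (add_zero n) := rfl

theorem mapH_comp {a b c : Over S} (g : a ⟶ b) (h : b ⟶ c) (x : grpH Z F n c) :
    mapH Z F n (g ≫ h) x = mapH Z F n g (mapH Z F n h x) := by
  obtain ⟨β, hβ⟩ := pullCompIso_comp g h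
  have eF : (EtCoh.pull g.left).map ((pullCompIso h).hom.app F) ≫ (pullCompIso g).hom.app F =
      β.hom.app _ ≫ (pullCompIso (g ≫ h)).hom.app F := by
    have := congrArg (fun i => i.hom.app F) hβ
    simpa using this.symm
  have eZ : (pullCompIso g).inv.app Z ≫ (EtCoh.pull g.left).map ((pullCompIso h).inv.app Z) =
      (pullCompIso (g ≫ h)).inv.app Z ≫ β.inv.app _ := by
    have := congrArg (fun i => i.inv.app Z) hβ
    simpa using this.symm
  have key := EtStalk.mapExt_comp_nat (EtCoh.pull h.left) (EtCoh.pull g.left) (EtCoh.pull (g ≫ h).left)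
    β.hom n x
  have key' : (x.mapExactFunctor (EtCoh.pull h.left)).mapExactFunctor (EtCoh.pull g.left) =
      ((Ext.mk₀ (β.hom.app _)).comp (x.mapExactFunctor (EtCoh.pull (g ≫ h).left)) (zero_add n)).comp
        (Ext.mk₀ (β.inv.app _)) (add_zero n) := by
    rw [← key, Ext.comp_assoc_of_third_deg_zero, Ext.mk₀_comp_mk₀, Iso.hom_inv_id_app]
    exact (Ext.comp_mk₀_id _).symm
  rw [mapH_apply, mapH_apply, mapH_apply, Ext.mapExactFunctor_comp, Ext.mapExactFunctor_comp,
    Ext.mapExactFunctor_mk₀, Ext.mapExactFunctor_mk₀, key']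
  simp only [Ext.comp_assoc_of_third_deg_zero, Ext.comp_assoc_of_second_deg_zero, Ext.mk₀_comp_mk₀,
    ← Ext.comp_assoc _ _ _ (zero_add 0) (zero_add n) (show 0 + 0 + n = n by lia)]
  simp only [Category.assoc]
  rw [eF, reassoc_of% eZ]
  simp only [Iso.inv_hom_id_app, Iso.inv_hom_id_app_assoc]
  congr 2
  all_goals try (simp; done)

theorem bijective_mapH_id (a : Over S) : Function.Bijective (mapH Z F n (𝟙 a)) := by
  let γ : EtCoh.pull (𝟙 a : a ⟶ a).left ≅ 𝟭 _ :=
    Adjunction.leftAdjointIdIso (EtCoh.pullPushAdj (𝟙 a : a ⟶ a).left) (pushId _)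
  have e : ∀ x : grpH Z F n a, x.mapExactFunctor (EtCoh.pull (𝟙 a : a ⟶ a).left) =
      conj (γ.hom.app _) (γ.inv.app _) n x := by
    intro x
    have h := mapExt_nat _ _ γ.hom n x
    rw [mapExt_id] at h
    have h' := congrArg (fun z => Ext.comp z (Ext.mk₀ (γ.inv.app _)) (add_zero n)) h
    simp only [Ext.comp_assoc_of_third_deg_zero, Ext.mk₀_comp_mk₀, Iso.hom_inv_id_app, Ext.comp_mk₀_id] at h'
    simpa [conj] using h'
  have : (mapH Z F n (𝟙 a) : grpH Z F n a → _) =
      conj ((pullCompIso (𝟙 a)).inv.app Z) ((pullCompIso (𝟙 a)).hom.app F) n ∘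
        conj (γ.hom.app _) (γ.inv.app _) n := funext fun x => by
    rw [Function.comp_apply, ← e]
    rfl
  rw [this]
  exact (bijective_conj ((pullCompIso (𝟙 a)).symm.app Z) ((pullCompIso (𝟙 a)).app F) n).comp
    (bijective_conj (γ.app _) (γ.symm.app _) n)

theorem mapH_id (a : Over S) (x : grpH Z F n a) : mapH Z F n (𝟙 a) x = x := by
  apply (bijective_mapH_id Z F n a).1
  rw [← mapH_comp, Category.id_comp]

/-- `b ↦ Ext(b⁻¹Z, b⁻¹F)` as a functor on spaces over `S`. -/
def pullH : (Over S)ᵒᵖ ⥤ AddCommGrpCat.{u + 1} where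
  obj b := AddCommGrpCat.of (grpH Z F n b.unop)
  map g := AddCommGrpCat.ofHom (mapH Z F n g.unop)
  map_id b := by
    ext x
    exact mapH_id Z F n b.unop x
  map_comp g h := by
    ext x
    exact mapH_comp Z F n h.unop g.unop x

section Const

/-- The value of `pullH` is cohomology. -/
def pullHIso (b : Over S) :
    (pullH (EtCoh.const S ℤ) F n).obj (op b) ≅ AddCommGrpCat.of (EtCoh.H b.left ((EtCoh.pull b.hom).obj F) n) :=
  AddEquiv.toAddCommGrpIso (X := AddCommGrpCat.of _) (Y := AddCommGrpCat.of _)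
    (AddEquiv.ofBijective (conj (EtCore.pullConst b.hom ℤ).inv (Iso.refl ((EtCoh.pull b.hom).obj F)).hom n)
      (bijective_conj (EtCore.pullConst b.hom ℤ).symm (Iso.refl _) n))

/-- Inverse image along the identity. -/
def pullId (X : Scheme.{u}) : EtCoh.pull (𝟙 X) ≅ 𝟭 (EtCoh.Ab X) :=
  Adjunction.leftAdjointIdIso (EtCoh.pullPushAdj (𝟙 X)) (pushId X)

end Const

end

end Groth.Agent.EtDesc24
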