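import Groth.Agent.Lib.EtStalk.Sets.Henselian
import Groth.Agent.Lib.EtStalk.Sets.Push
import Mathlib.CategoryTheory.Sites.ConstantSheaf

/-!
# Sheaves of sets on the spectrum of a separably closed field
-/

universe u

open CategoryTheory CategoryTheory.Limits AlgebraicGeometry Opposite
open Groth.Agent.EtStalk

namespace Groth.Agent.EtDesc24

section OnePoint

variable {X : Scheme.{u}} [Subsingleton X] {Ω : Type u} [Field Ω] [IsSepClosed Ω]
  (ξ : Spec (CommRingCat.of Ω) ⟶ X)

/-- On a one point scheme the geometric point lifts to every point of an étale scheme. -/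
lemma exists_fib_of_subsingleton (U : X.Etale) (x : U.left) :
    ∃ φ : fib ξ U, φ.left (default : Spec (CommRingCat.of Ω)) = x := by
  obtain ⟨φ, hφ⟩ := Scheme.pointSmallEtaleFiberObjToPreimage_surjective ξ
    (Subsingleton.elim (ξ default) (U.hom x)) U ⟨x, rfl⟩
  exact ⟨φ, congrArg Subtype.val hφ⟩

/-- A single geometric point is conservative on a one point scheme. -/
lemma isIso_of_bijective_stalk {F G : EtDesc.Sh X} (a : F ⟶ G)
    (h : Function.Bijective ((Sets.stalk ξ).map a)) : IsIso a := by
  have hmono : Mono a := by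
    rw [Sets.mono_iff_app_injective]
    rintro ⟨U⟩ s t hst
    have hS : Presheaf.equalizerSieve (F := F.obj) s t ∈ Scheme.smallEtaleTopology X U := by
      rw [EtSite.mem_et_iff]
      intro x
      obtain ⟨φ, hφ⟩ := exists_fib_of_subsingleton ξ U x
      have he : Sets.germ ξ F φ s = Sets.germ ξ F φ t := h.1 (by rw [Sets.germ_nat, Sets.germ_nat, hst])
      obtain ⟨V, g, y, hy, he⟩ := (Sets.germ_eq_iff ξ F φ s t).1 he
      refine ⟨V, g, y.left (default : Spec (CommRingCat.of Ω)), he, ?_⟩
      exact (congrArg (fun t : fib ξ U => t.left (default : Spec (CommRingCat.of Ω))) hy).trans hφ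
    exact (((isSheaf_iff_isSheaf_of_type _ _).1
      ((Presheaf.isSheaf_iff_isSheaf_forget _ F.obj (forget _)).1 F.property) _ hS).isSeparatedFor.ext
        fun V g hg => hg)
  have hepi : Epi a := by
    rw [← Sheaf.isLocallySurjective_iff_epi']
    refine ⟨fun {U} s => ?_⟩
    rw [EtSite.mem_et_iff]
    intro x
    obtain ⟨φ, hφ⟩ := exists_fib_of_subsingleton ξ U x
    obtain ⟨q, hq⟩ := h.2 (Sets.germ ξ G φ s)
    obtain ⟨V, y, t, rfl⟩ := Sets.germ_surjective ξ F q
    rw [Sets.germ_nat] at hq
    obtain ⟨⟨W, z⟩, ⟨gV, hgV⟩, ⟨gU, hgU⟩, -⟩ :=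
      IsCofilteredOrEmpty.cone_objs (C := (Scheme.pointSmallEtale ξ).fiber.Elements) ⟨V, y⟩ ⟨U, φ⟩
    dsimp at hgV hgU
    rw [← hgV, ← Sets.germ_map, ← hgU, ← Sets.germ_map, Sets.germ_eq_iff] at hq
    obtain ⟨W', g', z', hz', he⟩ := hq
    refine ⟨W', g' ≫ gU, z'.left (default : Spec (CommRingCat.of Ω)), ⟨F.obj.map (g' ≫ gV).op t, ?_⟩, ?_⟩
    · rw [op_comp, F.obj.map_comp, ConcreteCategory.comp_apply]
      rw [← ConcreteCategory.comp_apply, ← ConcreteCategory.comp_apply, a.hom.naturality,
        a.hom.naturality_assoc, ConcreteCategory.comp_apply, ConcreteCategory.comp_apply]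
      simpa [op_comp] using he
    · refine Eq.trans ?_ hφ
      rw [← hgU, ← hz']
      rfl
  exact isIso_iff_mono_and_epi a |>.2 ⟨hmono, hepi⟩

end OnePoint

section Henselian

variable (R : Type u) [CommRing R] [HenselianLocalRing R]
  [IsSepClosed (IsLocalRing.ResidueField R)]

local notation "S" => Spec (CommRingCat.of R)

lemma bijective_toPresheafFiber_const (M : Type (u + 1)) :
    Function.Bijective ((Scheme.pointSmallEtale (closedPt R)).toPresheafFiber (EtCoh.top S) (topFib R)
      ((Functor.const (Scheme.Etale S)ᵒᵖ).obj M)) := by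
  constructor
  · intro s t h
    obtain ⟨V, g, y, -, he⟩ :=
      (GrothendieckTopology.Point.toPresheafFiber_eq_iff' (Scheme.pointSmallEtale (closedPt R))
        (A := Type (u + 1)) (CC := fun X => X)
        (P := (Functor.const (Scheme.Etale S)ᵒᵖ).obj M) _ (topFib R) s t).1 h
    exact he
  · intro p
    obtain ⟨U, y, m, rfl⟩ := GrothendieckTopology.Point.toPresheafFiber_jointly_surjective
      (Scheme.pointSmallEtale (closedPt R))
      (A := Type (u + 1)) (CC := fun X => X) (P := (Functor.const (Scheme.Etale S)ᵒᵖ).obj M) p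
    obtain ⟨σ, hσ⟩ := exists_section R y
    refine ⟨m, ?_⟩
    rw [← hσ]
    exact GrothendieckTopology.Point.toPresheafFiber_w_apply (Scheme.pointSmallEtale (closedPt R))
      σ (topFib R) ((Functor.const (Scheme.Etale S)ᵒᵖ).obj M) m

lemma bijective_toSheafify_top (M : Type (u + 1)) :
    Function.Bijective ((toSheafify (Scheme.smallEtaleTopology S)
      ((Functor.const (Scheme.Etale S)ᵒᵖ).obj M)).app (op (EtCoh.top S))) := by
  let P := (Functor.const (Scheme.Etale S)ᵒᵖ).obj M
  let η := toSheafify (Scheme.smallEtaleTopology S) P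
  let Φ := Scheme.pointSmallEtale (closedPt R)
  have h1 : Function.Bijective (Φ.presheafFiber.map η) := Φ.toPresheafFiber_map_bijective η
  have h2 := bijective_toPresheafFiber_const R M
  have h3 := Sets.bijective_germ_top R ((presheafToSheaf (Scheme.smallEtaleTopology S) (Type (u + 1))).obj P)
  refine (Function.Bijective.of_comp_iff' h3 _).1 ?_
  have e : (fun m => Sets.germ (closedPt R) ((presheafToSheaf _ _).obj P) (topFib R)
      (η.app (op (EtCoh.top S)) m)) = Φ.presheafFiber.map η ∘ Φ.toPresheafFiber (EtCoh.top S) (topFib R) P := by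
    funext m
    exact (GrothendieckTopology.Point.toPresheafFiber_naturality_apply Φ η (EtCoh.top S) (topFib R) m).symm
  exact (congrArg Function.Bijective e).mpr (h1.comp h2)

lemma isEquivalence_sections [Subsingleton (Spec (CommRingCat.of R))] :
    ((sheafSections (Scheme.smallEtaleTopology S) (Type (u + 1))).obj (op (EtCoh.top S))).IsEquivalence := by
  let adj := constantSheafAdj (Scheme.smallEtaleTopology S) (Type (u + 1))
    (T := EtCoh.top S) (MorphismProperty.Over.mkIdTerminal _ _)
  have hu : IsIso adj.unit := by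
    rw [NatTrans.isIso_iff_isIso_app]
    intro M
    rw [ConcreteCategory.isIso_iff_bijective]
    exact bijective_toSheafify_top R M
  have hc : IsIso adj.counit := by
    rw [NatTrans.isIso_iff_isIso_app]
    intro F
    refine isIso_of_bijective_stalk (closedPt R) _ ?_
    have h := congrArg (fun f => (ConcreteCategory.hom f : _ → _)) (adj.right_triangle_components F)
    have h1 : Function.Bijective ((adj.counit.app F).hom.app (op (EtCoh.top S))) := by
      have hb := (ConcreteCategory.isIso_iff_bijective
        (adj.unit.app (F.obj.obj (op (EtCoh.top S))))).1 inferInstance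
      refine (Function.Bijective.of_comp_iff _ hb).1 ?_
      refine (congrArg Function.Bijective ?_).mpr Function.bijective_id
      exact h
    have hG := Sets.bijective_germ_top R F
    have hH := Sets.bijective_germ_top R ((constantSheaf _ _).obj (F.obj.obj (op (EtCoh.top S))))
    refine (Function.Bijective.of_comp_iff _ hH).1 ?_
    refine (congrArg Function.Bijective (funext fun s => ?_)).mpr (hG.comp h1)
    exact Sets.germ_nat (closedPt R) (adj.counit.app F) (topFib R) s
  exact adj.toEquivalence.isEquivalence_inverse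

end Henselian

lemma isSepClosed_residueField (k : Type u) [Field k] [IsSepClosed k] :
    IsSepClosed (IsLocalRing.ResidueField k) := by
  let e : k ≃+* IsLocalRing.ResidueField k := RingEquiv.ofBijective (IsLocalRing.residue k)
    ⟨(IsLocalRing.residue k).injective, IsLocalRing.residue_surjective⟩
  refine IsSepClosed.of_exists_root _ fun p hm hp hs => ?_
  obtain ⟨x, hx⟩ := IsSepClosed.exists_root (p.map e.symm.toRingHom) (by
    rw [Polynomial.degree_map]; exact (Polynomial.degree_pos_of_irreducible hp).ne') (hs.map)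
  refine ⟨e x, (map_eq_zero_iff _ e.symm.injective).1 ?_⟩
  rw [Polynomial.IsRoot, Polynomial.eval_map] at hx
  have h2 := (Polynomial.eval₂_at_apply (p := p) e.symm.toRingHom (e x)).symm
  rw [show e.symm.toRingHom (e x) = x from e.symm_apply_apply x] at h2
  exact h2.trans hx

theorem isEquivalence_sections_field (k : Type u) [Field k] [IsSepClosed k] :
    ((sheafSections (Spec (CommRingCat.of k)).smallEtaleTopology (Type (u + 1))).obj
      (op (EtCoh.top (Spec (CommRingCat.of k))))).IsEquivalence := by
  haveI : IsSepClosed (IsLocalRing.ResidueField k) :=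
    isSepClosed_residueField k
  haveI : Subsingleton (Spec (CommRingCat.of k)) := inferInstanceAs (Subsingleton (PrimeSpectrum k))
  exact isEquivalence_sections k

theorem pullSh_isEquivalence (k k' : Type u) [Field k] [IsSepClosed k]
    [Field k'] [IsSepClosed k'] [Algebra k k'] :
    (EtDesc.pullSh (Spec.map (CommRingCat.ofHom (algebraMap k k')))).IsEquivalence := by
  let f := Spec.map (CommRingCat.ofHom (algebraMap k k'))
  haveI := isEquivalence_sections_field k
  haveI := isEquivalence_sections_field k'
  let e : EtDesc.pushSh f ⋙ (sheafSections _ (Type (u + 1))).obj (op (EtCoh.top (Spec (CommRingCat.of k)))) ≅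
      (sheafSections _ (Type (u + 1))).obj (op (EtCoh.top (Spec (CommRingCat.of k')))) :=
    NatIso.ofComponents (fun G => G.obj.mapIso (EtCore.bcTopIso f).symm.op) fun {G G'} a =>
      (a.hom.naturality (EtCore.bcTopIso f).inv.op).symm
  haveI := Functor.isEquivalence_of_iso e.symm
  haveI : (EtDesc.pushSh f).IsEquivalence := Functor.isEquivalence_of_comp_right (EtDesc.pushSh f)
    ((sheafSections _ (Type (u + 1))).obj (op (EtCoh.top (Spec (CommRingCat.of k)))))
  exact (EtDesc.adjSh f).isEquivalence_left_of_isEquivalence_right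

end Groth.Agent.EtDesc24
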