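import Groth.Agent.Lib.EtStalk.Sets.Push
import Groth.Agent.Lib.EtStalk.Topological
import Groth.Agent.Lib.EtStalk.Agree

/-!
# Germs and the composition isomorphisms of inverse images of sheaves of sets
-/

universe u

open CategoryTheory CategoryTheory.Limits AlgebraicGeometry Opposite
open Groth.Agent.EtStalk

namespace Groth.Agent.EtDesc24

variable {T S X : Scheme.{u}} (g : T ⟶ S) (a : S ⟶ X)

set_option backward.isDefEq.respectTransparency.types false in
lemma unit_pullCompSh (G : EtDesc.Sh X) {V : X.Etale} (t : G.obj.obj (op V)) :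
    ((EtDesc.pullCompSh g a).hom.app G).hom.app (op ((EtCoh.bc (g ≫ a)).obj V))
        (((EtDesc.adjSh (g ≫ a)).unit.app G).hom.app (op V) t) =
      ((EtDesc.pullSh g).obj ((EtDesc.pullSh a).obj G)).obj.map
        ((MorphismProperty.Over.pullbackComp (P := EtCoh.etaleMP) (Q := ⊤) g a).hom.app V).op
        (((EtDesc.adjSh g).unit.app ((EtDesc.pullSh a).obj G)).hom.app (op ((EtCoh.bc a).obj V))
          (((EtDesc.adjSh a).unit.app G).hom.app (op V) t)) := by
  have h := Adjunction.unit_leftAdjointUniq_hom_app (EtDesc.adjSh (g ≫ a))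
    (((EtDesc.adjSh a).comp (EtDesc.adjSh g)).ofNatIsoRight (EtDesc.pushCompSh a g)) G
  exact congrArg (fun s : G ⟶ (EtDesc.pushSh (g ≫ a)).obj ((EtDesc.pullSh g).obj ((EtDesc.pullSh a).obj G)) =>
    s.hom.app (op V) t) h

variable {Ω : Type u} [Field Ω] [IsSepClosed Ω] (η : Spec (CommRingCat.of Ω) ⟶ T)

set_option backward.isDefEq.respectTransparency.types false in
/-- Germs under the composition isomorphism of inverse images. -/
lemma stalk_pullCompSh (G : EtDesc.Sh X) {V : X.Etale} (x : fib (η ≫ g ≫ a) V)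
    (x' : fib ((η ≫ g) ≫ a) V) (hx : x.left = x'.left) (t : G.obj.obj (op V)) :
    (Sets.stalk η).map ((EtDesc.pullCompSh g a).hom.app G)
        (Sets.stalkPull (g ≫ a) η G (Sets.germ (η ≫ g ≫ a) G x t)) =
      Sets.stalkPull g η ((EtDesc.pullSh a).obj G)
        (Sets.stalkPull a (η ≫ g) G (Sets.germ ((η ≫ g) ≫ a) G x' t)) := by
  rw [Sets.germ_stalkPull, Sets.germ_nat, unit_pullCompSh, Sets.germ_stalkPull a (η ≫ g)]
  refine Eq.trans ?_ (Sets.germ_stalkPull g η ((EtDesc.pullSh a).obj G) (liftFib a (η ≫ g) x') _).symm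
  refine (Sets.germ_map η ((EtDesc.pullSh g).obj ((EtDesc.pullSh a).obj G))
    ((MorphismProperty.Over.pullbackComp (P := EtCoh.etaleMP) (Q := ⊤) g a).hom.app V)
    (liftFib (g ≫ a) η x) _).trans ?_
  refine congrArg (fun z => Sets.germ η ((EtDesc.pullSh g).obj ((EtDesc.pullSh a).obj G)) z _) ?_
  refine Over.OverMorphism.ext (pullback.hom_ext (pullback.hom_ext ?_ ?_) ((Over.w _).trans (Over.w _).symm))
  · have h : ((MorphismProperty.Over.pullbackComp (P := EtCoh.etaleMP) (Q := ⊤) g a).hom.app V).left ≫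
        bcFst g ((EtCoh.bc a).obj V) ≫ bcFst a V = pullback.fst V.hom (g ≫ a) :=
      MorphismProperty.Over.pullbackComp_left_fst_fst g a V
    refine (Category.assoc _ _ _).trans ?_
    refine Eq.trans ?_ ((congrArg (· ≫ bcFst a V) (pullback.lift_fst _ _ _)).trans
      (pullback.lift_fst _ _ _)).symm
    refine Eq.trans ?_ hx
    refine (Category.assoc _ _ _).trans ?_
    exact (congrArg (_ ≫ ·) h).trans (pullback.lift_fst _ _ _)
  · have hc : bcFst g ((EtCoh.bc a).obj V) ≫ pullback.snd V.hom a =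
        pullback.snd ((EtCoh.bc a).obj V).hom g ≫ g := pullback.condition
    refine (Category.assoc _ _ _).trans (Eq.trans ?_ (Category.assoc _ _ _).symm)
    refine (congrArg (_ ≫ ·) hc).trans (Eq.trans ?_ (congrArg (_ ≫ ·) hc.symm))
    exact (Category.assoc _ _ _).symm.trans ((congrArg (· ≫ g)
      ((Over.w _).trans (Over.w _).symm)).trans (Category.assoc _ _ _))

set_option backward.isDefEq.respectTransparency.types false in
/-- Germs under `pullVia`. -/
lemma stalk_pullVia (b : T ⟶ X) (w : g ≫ a = b) (G : EtDesc.Sh X) {V : X.Etale}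
    (x : fib ((η ≫ g) ≫ a) V) (x' : fib (η ≫ b) V) (hx : x'.left = x.left) (t : G.obj.obj (op V)) :
    (Sets.stalk η).map (EtDesc.pullVia g a b w G).hom
        (Sets.stalkPull g η ((EtDesc.pullSh a).obj G)
          (Sets.stalkPull a (η ≫ g) G (Sets.germ ((η ≫ g) ≫ a) G x t))) =
      Sets.stalkPull b η G (Sets.germ (η ≫ b) G x' t) := by
  subst w
  rw [← stalk_pullCompSh g a η G x' x hx t]
  have e : (EtDesc.pullCompSh g a).hom.app G ≫ (EtDesc.pullVia g a (g ≫ a) rfl G).hom = 𝟙 _ := by
    simp [EtDesc.pullVia, EtDesc.pullCongrSh]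
  rw [← ConcreteCategory.comp_apply, ← Functor.map_comp, e, CategoryTheory.Functor.map_id]
  rfl

end Groth.Agent.EtDesc24
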