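import Groth.Agent.Lib.EtDesc24.SetsPush
import Groth.Agent.Lib.EtStalk.Sets.Surjective

/-!
# Sections of a sheaf of sets lying in a subsheaf
-/

universe u

open CategoryTheory CategoryTheory.Limits AlgebraicGeometry Opposite
open Groth.Agent.EtStalk

namespace Groth.Agent.EtDesc24

variable {X : Scheme.{u}}

/-- A geometric point of `U` whose image is hit by `V` lifts to `V`. -/
lemma exists_fib_lift {Ω : Type u} [Field Ω] [IsSepClosed Ω] {ξ : Spec (CommRingCat.of Ω) ⟶ X}
    {U V : X.Etale} (g : V ⟶ U) (φ : fib ξ U) (h : fibPt φ ∈ Set.range g.left) :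
    ∃ y : fib ξ V, (Scheme.pointSmallEtale ξ).fiber.map g y = φ := by
  obtain ⟨v, hv⟩ := h
  have := etale_left g
  let φl : Spec (CommRingCat.of Ω) ⟶ U.left := φ.left
  obtain ⟨y', -⟩ := Scheme.pointSmallEtaleFiberObjToPreimage_surjective φl
    (s₀ := φl default) rfl (Scheme.Etale.mk g.left) ⟨v, hv⟩
  have hy : y'.left ≫ g.left = φl := Over.w y'
  exact ⟨Over.homMk y'.left (by
    change y'.left ≫ V.hom = ξ
    have h1 : g.left ≫ U.hom = V.hom := MorphismProperty.Over.w g
    exact (congrArg (y'.left ≫ ·) h1.symm).trans ((Category.assoc _ _ _).symm.trans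
      ((congrArg (· ≫ U.hom) hy).trans (Over.w φ)))), Over.OverMorphism.ext hy⟩

variable {A F : EtDesc.Sh X} (a : A ⟶ F)

/-- The points near which a section lies in the image of `a`. -/
def inImage {U : X.Etale} (s : F.obj.obj (op U)) : Set U.left :=
  {x | ∃ (V : X.Etale) (g : V ⟶ U), x ∈ Set.range g.left ∧
    ∃ t, a.hom.app (op V) t = F.obj.map g.op s}

variable {U : X.Etale}

lemma isOpen_inImage (s : F.obj.obj (op U)) : IsOpen (inImage a s) := by
  refine isOpen_iff_forall_mem_open.2 fun x ⟨V, g, hx, he⟩ => ?_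
  have := etale_left g
  exact ⟨Set.range g.left, fun y hy => ⟨V, g, hy, he⟩, g.left.isOpenMap.isOpen_range, hx⟩

lemma mem_inImage_iff_germ {Ω : Type u} [Field Ω] [IsSepClosed Ω] {ξ : Spec (CommRingCat.of Ω) ⟶ X}
    (φ : fib ξ U) (s : F.obj.obj (op U)) :
    fibPt φ ∈ inImage a s ↔ ∃ q, (Sets.stalk ξ).map a q = Sets.germ ξ F φ s := by
  constructor
  · rintro ⟨V, g, hx, t, ht⟩
    obtain ⟨y, hy⟩ := exists_fib_lift g φ hx
    refine ⟨Sets.germ ξ A y t, ?_⟩
    rw [Sets.germ_nat, ht, Sets.germ_map, hy]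
  · rintro ⟨q, hq⟩
    obtain ⟨V, y, t, rfl⟩ := Sets.germ_surjective ξ A q
    rw [Sets.germ_nat] at hq
    obtain ⟨⟨W, z⟩, ⟨gV, hgV⟩, ⟨gU, hgU⟩, -⟩ :=
      IsCofilteredOrEmpty.cone_objs (C := (Scheme.pointSmallEtale ξ).fiber.Elements) ⟨V, y⟩ ⟨U, φ⟩
    dsimp at hgV hgU
    rw [← hgV, ← Sets.germ_map, ← hgU, ← Sets.germ_map, Sets.germ_eq_iff] at hq
    obtain ⟨W', g', z', hz', he⟩ := hq
    refine ⟨W', g' ≫ gU, ⟨fibPt z', ?_⟩, A.obj.map (g' ≫ gV).op t, ?_⟩
    · refine Eq.trans ?_ (congrArg fibPt hgU)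
      refine Eq.trans ?_ (congrArg (fun r => fibPt ((Scheme.pointSmallEtale ξ).fiber.map gU r)) hz')
      rfl
    · rw [op_comp, op_comp, Functor.map_comp_apply, Functor.map_comp_apply, ← he,
        NatTrans.naturality_apply, NatTrans.naturality_apply]

lemma inImage_map {V : X.Etale} (g : V ⟶ U) (s : F.obj.obj (op U)) (w : V.left) :
    w ∈ inImage a (F.obj.map g.op s) ↔ g.left w ∈ inImage a s := by
  obtain ⟨φ, hφ⟩ := exists_fib V w
  rw [← (show fibPt φ = w from hφ)]
  refine (mem_inImage_iff_germ a φ _).trans (Iff.trans ?_ (mem_inImage_iff_germ a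
    ((Scheme.pointSmallEtale _).fiber.map g φ) s).symm)
  rw [Sets.germ_map]

/-- A section lying locally in the image of a monomorphism lies in the image. -/
lemma exists_of_inImage [Mono a] (s : F.obj.obj (op U)) (h : ∀ x, x ∈ inImage a s) :
    ∃ t, a.hom.app (op U) t = s := by
  have hinj := (Sets.mono_iff_app_injective a).1 inferInstance
  let S : Sieve U :=
    { arrows := fun V g => ∃ t, a.hom.app (op V) t = F.obj.map g.op s
      downward_closed := fun {V W} g ⟨t, ht⟩ k => ⟨A.obj.map k.op t, by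
        rw [NatTrans.naturality_apply, ht, ← Functor.map_comp_apply, ← op_comp]⟩ }
  have hS : S ∈ X.smallEtaleTopology U := by
    rw [EtSite.mem_et_iff]
    intro x
    obtain ⟨V, g, ⟨v, hv⟩, ht⟩ := h x
    exact ⟨V, g, v, ht, hv⟩
  choose t ht using fun (V : X.Etale) (g : V ⟶ U) (hg : S g) => hg
  let fam : Presieve.FamilyOfElements A.obj S.arrows := fun V g hg => t V g hg
  have hfam : fam.Compatible := by
    intro V₁ V₂ W g₁ g₂ f₁ f₂ h₁ h₂ e
    refine hinj _ ?_
    show a.hom.app _ (A.obj.map g₁.op (t V₁ f₁ h₁)) = a.hom.app _ (A.obj.map g₂.op (t V₂ f₂ h₂))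
    rw [NatTrans.naturality_apply, NatTrans.naturality_apply, ht, ht, ← Functor.map_comp_apply,
      ← Functor.map_comp_apply, ← op_comp, ← op_comp, e]
  obtain ⟨T, hT, -⟩ := (((isSheaf_iff_isSheaf_of_type _ _).1
    ((Presheaf.isSheaf_iff_isSheaf_forget _ A.obj (forget _)).1 A.property)) _ hS) fam hfam
  refine ⟨T, (((isSheaf_iff_isSheaf_of_type _ _).1
    ((Presheaf.isSheaf_iff_isSheaf_forget _ F.obj (forget _)).1 F.property)) _ hS).isSeparatedFor.ext
      fun V g hg => ?_⟩
  exact (NatTrans.naturality_apply a.hom g.op T).symm.trans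
    ((congrArg (a.hom.app (op V)) (hT g hg)).trans (ht V g hg))

/-- A morphism landing locally in the image of a monomorphism factors through it. -/
lemma exists_factor [Mono a] {B : EtDesc.Sh X} (b : B ⟶ F)
    (h : ∀ (U : X.Etale) (s : B.obj.obj (op U)) (x : U.left), x ∈ inImage a (b.hom.app (op U) s)) :
    ∃ ψ : B ⟶ A, ψ ≫ a = b := by
  have hinj := (Sets.mono_iff_app_injective a).1 inferInstance
  choose t ht using fun (U : X.Etale) (s : B.obj.obj (op U)) => exists_of_inImage a _ (h U s)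
  refine ⟨⟨
    { app := fun U => ↾(t U.unop)
      naturality := fun U V g => ConcreteCategory.hom_ext _ _ fun s => by
        refine hinj V ?_
        show a.hom.app (op V.unop) (t V.unop (B.obj.map g s)) = a.hom.app V (A.obj.map g (t U.unop s))
        rw [ht, NatTrans.naturality_apply, NatTrans.naturality_apply]
        exact congrArg _ (ht U.unop s).symm }⟩, ?_⟩
  exact Sheaf.hom_ext (NatTrans.ext (funext fun U => ConcreteCategory.hom_ext _ _ fun s => ht U.unop s))

variable {X' : Scheme.{u}} (f : X' ⟶ X) [Surjective f]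

/-- Factorisation through a monomorphism is detected at the geometric points coming from `X'`. -/
lemma exists_factor_of_stalk_comp [Mono a] {B : EtDesc.Sh X} (b : B ⟶ F)
    (h : ∀ (Ω : Type u) [Field Ω] [IsSepClosed Ω] (η : Spec (CommRingCat.of Ω) ⟶ X')
      (p : (Sets.stalk (η ≫ f)).obj B), ∃ q, (Sets.stalk (η ≫ f)).map a q = (Sets.stalk (η ≫ f)).map b p) :
    ∃ ψ : B ⟶ A, ψ ≫ a = b := by
  refine exists_factor a b fun U s x => ?_
  obtain ⟨x', hx'⟩ := f.surjective (U.hom x)
  let η := geomPt X' x'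
  have hη : (η ≫ f) (default : Spec (CommRingCat.of (SeparableClosure (X'.residueField x')))) = U.hom x :=
    (Scheme.Hom.comp_apply _ _ _).trans ((congrArg f (geomPt_default x')).trans hx')
  obtain ⟨φ, hφ⟩ := Scheme.pointSmallEtaleFiberObjToPreimage_surjective (η ≫ f) hη U ⟨x, rfl⟩
  have hφ' : fibPt φ = x := congrArg Subtype.val hφ
  rw [← hφ', mem_inImage_iff_germ, ← Sets.germ_nat]
  exact h _ η _

end Groth.Agent.EtDesc24
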