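import Groth.Agent.Lib.EtDesc24.Subm
import Groth.Agent.Lib.EtDesc24.SubSheaf

/-!
# Subsheaves descend along universally submersive morphisms
-/

universe u

open CategoryTheory CategoryTheory.Limits AlgebraicGeometry Opposite
open Groth.Agent.EtStalk

namespace Groth.Agent.EtDesc24

variable {X' X : Scheme.{u}} (f : X' ⟶ X)

section Points

variable {Ω : Type u} [Field Ω] [IsSepClosed Ω]

/-- Membership in a subsheaf stable under the descent datum is preserved by the correspondence. -/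
lemma mem_range_iff_of_comm {T : Scheme.{u}} (p₁ p₂ : T ⟶ X') {G' H : EtDesc.Sh X'} (a' : G' ⟶ H)
    (φ : (EtDesc.pullSh p₁).obj G' ≅ (EtDesc.pullSh p₂).obj G')
    (c : (EtDesc.pullSh p₁).obj H ≅ (EtDesc.pullSh p₂).obj H)
    (hφ : φ.hom ≫ (EtDesc.pullSh p₂).map a' = (EtDesc.pullSh p₁).map a' ≫ c.hom)
    (η : Spec (CommRingCat.of Ω) ⟶ T) (x₁ : (Sets.stalk (η ≫ p₁)).obj H) (x₂ : (Sets.stalk (η ≫ p₂)).obj H)
    (h : (Sets.stalk η).map c.hom (Sets.stalkPull p₁ η H x₁) = Sets.stalkPull p₂ η H x₂) :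
    (∃ q, (Sets.stalk (η ≫ p₁)).map a' q = x₁) ↔ (∃ q, (Sets.stalk (η ≫ p₂)).map a' q = x₂) := by
  have key : ∀ (q₁ : (Sets.stalk (η ≫ p₁)).obj G') (q₂ : (Sets.stalk (η ≫ p₂)).obj G'),
      (Sets.stalk η).map φ.hom (Sets.stalkPull p₁ η G' q₁) = Sets.stalkPull p₂ η G' q₂ →
      ((Sets.stalk (η ≫ p₁)).map a' q₁ = x₁ ↔ (Sets.stalk (η ≫ p₂)).map a' q₂ = x₂) := by
    intro q₁ q₂ hq
    have e₁ := ConcreteCategory.congr_hom (Sets.stalkPull_nat p₁ η a') q₁
    have e₂ := ConcreteCategory.congr_hom (Sets.stalkPull_nat p₂ η a') q₂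
    rw [ConcreteCategory.comp_apply, ConcreteCategory.comp_apply] at e₁ e₂
    have e : (Sets.stalk η).map c.hom (Sets.stalkPull p₁ η H ((Sets.stalk (η ≫ p₁)).map a' q₁)) =
        Sets.stalkPull p₂ η H ((Sets.stalk (η ≫ p₂)).map a' q₂) := by
      rw [← e₁, ← e₂, ← hq, ← Functor.map_comp_apply, ← Functor.map_comp_apply, hφ]
    constructor
    · rintro rfl
      exact (ConcreteCategory.bijective_of_isIso (Sets.stalkPull p₂ η H)).1 (e.symm.trans h)
    · rintro rfl
      exact (ConcreteCategory.bijective_of_isIso (Sets.stalkPull p₁ η H)).1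
        ((ConcreteCategory.bijective_of_isIso ((Sets.stalk η).map c.hom)).1 (e.trans h.symm))
  constructor
  · rintro ⟨q₁, hq₁⟩
    obtain ⟨q₂, hq₂⟩ := (ConcreteCategory.bijective_of_isIso (Sets.stalkPull p₂ η G')).2
      ((Sets.stalk η).map φ.hom (Sets.stalkPull p₁ η G' q₁))
    exact ⟨q₂, (key q₁ q₂ hq₂.symm).1 hq₁⟩
  · rintro ⟨q₂, hq₂⟩
    obtain ⟨q₁, hq₁⟩ := (ConcreteCategory.bijective_of_isIso
      (Sets.stalkPull p₁ η G' ≫ (Sets.stalk η).map φ.hom)).2 (Sets.stalkPull p₂ η G' q₂)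
    exact ⟨q₁, (key q₁ q₂ ((ConcreteCategory.comp_apply _ _ _).symm.trans hq₁)).2 hq₂⟩

end Points

/-- Subsheaves with the same inverse image along a surjective morphism are the same. -/
theorem exists_iso_of_pull_eq [Surjective f] {F G₁ G₂ : EtDesc.Sh X} (a₁ : G₁ ⟶ F) (a₂ : G₂ ⟶ F)
    [Mono a₁] [Mono a₂] (φ : (EtDesc.pullSh f).obj G₁ ≅ (EtDesc.pullSh f).obj G₂)
    (h : φ.hom ≫ (EtDesc.pullSh f).map a₂ = (EtDesc.pullSh f).map a₁) :
    ∃ ψ : G₁ ≅ G₂, ψ.hom ≫ a₂ = a₁ := by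
  have key : ∀ {A B : EtDesc.Sh X} (a : A ⟶ F) (b : B ⟶ F) [Mono a]
      (e : (EtDesc.pullSh f).obj B ⟶ (EtDesc.pullSh f).obj A),
      e ≫ (EtDesc.pullSh f).map a = (EtDesc.pullSh f).map b → ∃ ψ : B ⟶ A, ψ ≫ a = b := by
    intro A B a b _ e he
    refine exists_factor_of_stalk_comp a f b fun Ω _ _ η p => ?_
    refine ⟨inv (Sets.stalkPull f η A) ((Sets.stalk η).map e (Sets.stalkPull f η B p)), ?_⟩
    refine (ConcreteCategory.bijective_of_isIso (Sets.stalkPull f η F)).1 ?_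
    rw [← ConcreteCategory.comp_apply ((Sets.stalk (η ≫ f)).map a), ← Sets.stalkPull_nat,
      ConcreteCategory.comp_apply, ← ConcreteCategory.comp_apply (inv (Sets.stalkPull f η A)),
      IsIso.inv_hom_id, ConcreteCategory.id_apply, ← Functor.map_comp_apply, he,
      ← ConcreteCategory.comp_apply, Sets.stalkPull_nat, ConcreteCategory.comp_apply]
  obtain ⟨ψ, hψ⟩ := key a₂ a₁ φ.hom h
  obtain ⟨ψ', hψ'⟩ := key a₁ a₂ φ.inv (by rw [← h, Iso.inv_hom_id_assoc])
  exact ⟨⟨ψ, ψ', (cancel_mono a₁).1 (by rw [Category.assoc, hψ', hψ, Category.id_comp]),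
    (cancel_mono a₂).1 (by rw [Category.assoc, hψ, hψ', Category.id_comp])⟩, hψ⟩

section Descend

variable (F : EtDesc.Sh X) {G' : EtDesc.Sh X'} (a' : G' ⟶ (EtDesc.pullSh f).obj F)

/-- The sections whose inverse image lies in a given subsheaf. -/
noncomputable def descSub : Subfunctor F.obj where
  obj U := {t | ∀ z, z ∈ inImage a' (unitAt f F U.unop t)}
  map {U V} g t ht := by
    intro z
    show z ∈ inImage a' (unitAt f F V.unop (F.obj.map g.unop.op t))
    rw [unitAt_map, inImage_map]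
    exact ht _

lemma isSheaf_descSub : Presheaf.IsSheaf X.smallEtaleTopology (descSub f F a').toFunctor := by
  rw [isSheaf_iff_isSheaf_of_type, Subfunctor.isSheaf_iff _
    ((isSheaf_iff_isSheaf_of_type _ _).1 F.property)]
  intro U s hs z
  rw [EtSite.mem_et_iff] at hs
  obtain ⟨V, g, v, hg, hv⟩ := hs (bcFst f U.unop z)
  obtain ⟨w, hw, -⟩ := Scheme.exists_preimage_of_isPullback (EtCoh.isPullback_bc_map f g) z v hv.symm
  have h := (hg : ∀ z, z ∈ inImage a' (unitAt f F V (F.obj.map g.op s))) w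
  rw [unitAt_map, inImage_map] at h
  exact hw ▸ h

/-- The descended subsheaf. -/
noncomputable def descSheaf : EtDesc.Sh X := ⟨(descSub f F a').toFunctor, isSheaf_descSub f F a'⟩

/-- Its inclusion. -/
noncomputable def descIncl : descSheaf f F a' ⟶ F := ⟨(descSub f F a').ι⟩

instance : Mono (descIncl f F a') :=
  (Sets.mono_iff_app_injective _).2 fun _ _ _ h => Subtype.ext h

/-- The inverse image of the descended subsheaf lies in the given one. -/
lemma pull_descIncl_inImage (U : X'.Etale) (s : ((EtDesc.pullSh f).obj (descSheaf f F a')).obj.obj (op U))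
    (z : U.left) : z ∈ inImage a' (((EtDesc.pullSh f).map (descIncl f F a')).hom.app (op U) s) := by
  obtain ⟨φ, hφ⟩ := exists_fib U z
  rw [← (show fibPt φ = z from hφ), mem_inImage_iff_germ, ← Sets.germ_nat]
  obtain ⟨p, hp⟩ := (ConcreteCategory.bijective_of_isIso (Sets.stalkPull f _ (descSheaf f F a'))).2
    (Sets.germ _ _ φ s)
  obtain ⟨V, y, t, rfl⟩ := Sets.germ_surjective _ _ p
  rw [← hp, ← ConcreteCategory.comp_apply, Sets.stalkPull_nat, ConcreteCategory.comp_apply,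
    Sets.germ_nat, Sets.germ_stalkPull, ← mem_inImage_iff_germ]
  exact t.2 _

theorem exists_descend (hf : EtDesc.IsUnivSubmersive f) [Mono a']
    (φ : (EtDesc.pullSh (pullback.fst f f)).obj G' ≅ (EtDesc.pullSh (pullback.snd f f)).obj G')
    (hφ : φ.hom ≫ (EtDesc.pullSh (pullback.snd f f)).map a' =
      (EtDesc.pullSh (pullback.fst f f)).map a' ≫ (EtDesc.canIso f F).hom) :
    ∃ (G : EtDesc.Sh X) (a : G ⟶ F) (_ : Mono a) (ψ : (EtDesc.pullSh f).obj G ≅ G'),
      ψ.hom ≫ a' = (EtDesc.pullSh f).map a := by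
  obtain ⟨ψ, hψ⟩ := exists_factor a' ((EtDesc.pullSh f).map (descIncl f F a'))
    (pull_descIncl_inImage f F a')
  have := Sets.mono_pull_map f (descIncl f F a')
  have : Mono ψ := mono_of_mono_fac hψ
  have : Epi ψ := by
    rw [Sets.epi_iff_stalk]
    intro Ω _ _ ξ q
    obtain ⟨p, hp⟩ := (ConcreteCategory.bijective_of_isIso (Sets.stalkPull f ξ F)).2 ((Sets.stalk ξ).map a' q)
    obtain ⟨V, y, t₀, rfl⟩ := Sets.germ_surjective _ _ p
    let u := unitAt f F V t₀
    have hy : fibPt (liftFib f ξ y) ∈ inImage a' u := by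
      rw [mem_inImage_iff_germ]
      exact ⟨q, hp.symm.trans (Sets.germ_stalkPull f ξ F y t₀)⟩
    have hsat : ∀ z₁ z₂, bcFst f V z₁ = bcFst f V z₂ → z₁ ∈ inImage a' u → z₂ ∈ inImage a' u := by
      intro z₁ z₂ hz h₁
      obtain ⟨Ω', _, _, η, x₁, x₂, hx, rfl, rfl⟩ := saturated_of_rel f hz
      rw [mem_inImage_iff_germ] at h₁ ⊢
      exact (mem_range_iff_of_comm (pullback.fst f f) (pullback.snd f f) a' φ (EtDesc.canIso f F) hφ η _ _
        (rel_unit f F η x₁ x₂ hx t₀)).1 h₁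
    let O : V.left.Opens := ⟨bcFst f V '' inImage a' u, by
      rw [← (isQuotientMap_bcFst f hf V).isOpen_preimage]
      convert isOpen_inImage a' u using 1
      ext w
      exact ⟨fun ⟨w', h', e⟩ => hsat w' w e h', fun h' => ⟨w, h', rfl⟩⟩⟩
    have hyO : fibPt y ∈ O := ⟨_, hy, bcFst_fibPt_liftFib f _ y⟩
    obtain ⟨y', hy'⟩ := exists_fib_lift (EtSite.subHom V O) y ⟨⟨fibPt y, hyO⟩, rfl⟩
    have ht : ∀ z, z ∈ inImage a' (unitAt f F (EtSite.sub V O) (F.obj.map (EtSite.subHom V O).op t₀)) := by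
      intro z
      rw [unitAt_map, inImage_map]
      have hm : bcFst f V (((EtCoh.bc f).map (EtSite.subHom V O)).left z) ∈ O := by
        rw [← Scheme.Hom.comp_apply, bcFst_nat, Scheme.Hom.comp_apply]
        exact (bcFst f (EtSite.sub V O) z).2
      obtain ⟨w', hw', e⟩ := hm
      exact hsat _ _ e hw'
    let t : (descSheaf f F a').obj.obj (op (EtSite.sub V O)) := ⟨_, ht⟩
    refine ⟨Sets.stalkPull f ξ _ (Sets.germ (ξ ≫ f) (descSheaf f F a') y' t), ?_⟩
    refine (Sets.mono_iff_stalk a').1 inferInstance Ω ξ ?_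
    rw [← Functor.map_comp_apply, hψ, ← ConcreteCategory.comp_apply, Sets.stalkPull_nat,
      ConcreteCategory.comp_apply, Sets.germ_nat, ← hp]
    refine congrArg (Sets.stalkPull f ξ F) ?_
    show Sets.germ (ξ ≫ f) F y' (F.obj.map (EtSite.subHom V O).op t₀) = _
    rw [Sets.germ_map, hy']
  have := isIso_of_mono_of_epi ψ
  exact ⟨_, descIncl f F a', inferInstance, asIso ψ, hψ⟩

end Descend

end Groth.Agent.EtDesc24
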