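import Groth.Agent.Lib.EtStalk.IntegralBC
import Groth.Agent.Lib.EtStalk.Sets.Push
import Groth.Prelude.Def_EtBCD

/-!
# Direct images of sheaves of sets along integral morphisms
-/

universe u

open CategoryTheory CategoryTheory.Limits AlgebraicGeometry Opposite
open Groth.Agent.Weight Groth.Agent.EtStalk

namespace Groth.Agent.EtDesc24

section Agree

variable {X : Scheme.{u}}

/-- The set of points of `U` near which the two sections agree. -/
def agree (G : EtDesc.Sh X) {U : X.Etale} (s t : G.obj.obj (op U)) : Set U.left :=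
  {x | ∃ (V : X.Etale) (g : V ⟶ U), x ∈ Set.range g.left ∧ G.obj.map g.op s = G.obj.map g.op t}

variable (G : EtDesc.Sh X) {U : X.Etale}

lemma isOpen_agree (s t : G.obj.obj (op U)) : IsOpen (agree G s t) := by
  refine isOpen_iff_forall_mem_open.2 fun x ⟨V, g, hx, he⟩ => ?_
  have := etale_left g
  exact ⟨Set.range g.left, fun y hy => ⟨V, g, hy, he⟩, g.left.isOpenMap.isOpen_range, hx⟩

set_option backward.isDefEq.respectTransparency.types false in
lemma mem_agree_iff_germ {Ω : Type u} [Field Ω] [IsSepClosed Ω]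
    {ξ : Spec (CommRingCat.of Ω) ⟶ X} (φ : fib ξ U) (s t : G.obj.obj (op U)) :
    fibPt φ ∈ agree G s t ↔
      Sets.germ ξ G φ s = Sets.germ ξ G φ t := by
  constructor
  · rintro ⟨V, g, ⟨v, hv⟩, he⟩
    have := etale_left g
    let φl : Spec (CommRingCat.of Ω) ⟶ U.left := φ.left
    obtain ⟨y', -⟩ := Scheme.pointSmallEtaleFiberObjToPreimage_surjective φl
      (s₀ := φl default) rfl (Scheme.Etale.mk g.left) ⟨v, hv⟩
    have hy : y'.left ≫ g.left = φl := Over.w y'
    let y : fib ξ V := Over.homMk y'.left (by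
      change y'.left ≫ V.hom = ξ
      have h1 : g.left ≫ U.hom = V.hom := MorphismProperty.Over.w g
      exact (congrArg (y'.left ≫ ·) h1.symm).trans ((Category.assoc _ _ _).symm.trans
        ((congrArg (· ≫ U.hom) hy).trans (Over.w φ))))
    have hφ : (Scheme.pointSmallEtale ξ).fiber.map g y = φ := Over.OverMorphism.ext hy
    exact (Sets.germ_eq_iff ξ G φ s t).2 ⟨V, g, y, hφ, he⟩
  · intro h
    obtain ⟨V, g, y, hy, he⟩ := (Sets.germ_eq_iff ξ G φ s t).1 h
    refine ⟨V, g, ⟨y.left (default : Spec (CommRingCat.of Ω)), ?_⟩, he⟩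
    exact congrArg (fun r : fib ξ U => r.left (default : Spec (CommRingCat.of Ω))) hy

lemma eq_of_agree {s t : G.obj.obj (op U)} (h : ∀ x, x ∈ agree G s t) : s = t := by
  refine Sets.ext_germ s t fun Ω _ _ ξ φ => ?_
  exact (mem_agree_iff_germ G φ s t).1 (h _)

end Agree

section AlgClosed

variable {X : Scheme.{u}}

lemma isIso_iff_stalk_alg {F G : EtDesc.Sh X} (a : F ⟶ G) :
    IsIso a ↔ ∀ (Ω : Type u) [Field Ω] [IsAlgClosed Ω] (ξ : Spec (CommRingCat.of Ω) ⟶ X),
      Function.Bijective ((Sets.stalk ξ).map a) := by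
  refine ⟨fun _ Ω _ _ ξ => ConcreteCategory.bijective_of_isIso _, fun h => ?_⟩
  have hinj : ∀ U, Function.Injective (a.hom.app U) := by
    intro U s t hst
    refine eq_of_agree F fun x => ?_
    obtain ⟨Ω, _, _, ξ, φ, hφ⟩ := exists_algFib U.unop x
    refine hφ ▸ (mem_agree_iff_germ F φ s t).2 ((h Ω ξ).1 ?_)
    rw [Sets.germ_nat, Sets.germ_nat, hst]
  have : Mono a := (Sets.mono_iff_app_injective a).2 hinj
  suffices Epi a from isIso_of_mono_of_epi a
  rw [← Sheaf.isLocallySurjective_iff_epi']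
  refine ⟨fun {U} s => ?_⟩
  rw [EtSite.mem_et_iff]
  intro x
  obtain ⟨Ω, _, _, ξ, φ, hφ⟩ := exists_algFib U x
  obtain ⟨q, hq⟩ := (h Ω ξ).2 (Sets.germ ξ G φ s)
  obtain ⟨V, y, t, rfl⟩ := Sets.germ_surjective ξ F q
  rw [Sets.germ_nat] at hq
  obtain ⟨⟨W, z⟩, ⟨gV, hgV⟩, ⟨gU, hgU⟩, -⟩ :=
    IsCofilteredOrEmpty.cone_objs (C := (Scheme.pointSmallEtale ξ).fiber.Elements) ⟨V, y⟩ ⟨U, φ⟩
  dsimp at hgV hgU
  rw [← hgV, ← Sets.germ_map, ← hgU, ← Sets.germ_map, Sets.germ_eq_iff] at hq
  obtain ⟨W', g', z', hz', he⟩ := hq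
  refine ⟨W', g' ≫ gU, fibPt z', ⟨F.obj.map (g' ≫ gV).op t, ?_⟩, ?_⟩
  · rw [op_comp, F.obj.map_comp, ConcreteCategory.comp_apply]
    rw [← ConcreteCategory.comp_apply, ← ConcreteCategory.comp_apply, a.hom.naturality,
      a.hom.naturality_assoc, ConcreteCategory.comp_apply, ConcreteCategory.comp_apply]
    simpa [op_comp] using he
  · have e : (Scheme.pointSmallEtale ξ).fiber.map (g' ≫ gU) z' = φ := by
      rw [← hgU, ← hz', Functor.map_comp]; rfl
    exact Eq.trans (congrArg fibPt e) hφ

end AlgClosed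

section Parts

variable {X : Scheme.{u}} (F : EtDesc.Sh X) (U : X.Etale) {ι : Type u} (P : ι → U.left.Opens)

lemma existsUnique_glue_parts (hP : ∀ z, ∃! l, z ∈ P l)
    (s : ∀ l, F.obj.obj (op (EtSite.sub U (P l)))) :
    ∃! t : F.obj.obj (op U), ∀ l, F.obj.map (EtSite.subHom U (P l)).op t = s l := by
  have hsh := (Presieve.isSheafFor_iff_generate _).2
    (((isSheaf_iff_isSheaf_of_type _ _).1
      ((Presheaf.isSheaf_iff_isSheaf_forget _ F.obj (forget _)).1 F.property)) _
        (generate_parts_mem U P fun z => (hP z).exists))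
  rw [Presieve.isSheafFor_arrows_iff] at hsh
  refine hsh s ?_
  intro i j Z gi gj h
  by_cases hij : i = j
  · subst hij
    have : Mono (EtSite.subHom U (P i)) := (MorphismProperty.Over.forget _ _ _).mono_of_mono_map
      ((Over.forget X).mono_of_mono_map (inferInstanceAs (Mono (P i).ι)))
    rw [(cancel_mono (EtSite.subHom U (P i))).1 h]
  · have : IsEmpty Z.left := ⟨fun z => hij ((hP ((P i).ι (gi.left z))).unique (gi.left z).2 (by
      rw [show (P i).ι (gi.left z) = (P j).ι (gj.left z) from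
        (Scheme.Hom.comp_apply _ _ _).symm.trans
          ((congrArg (fun t : Z.left ⟶ U.left => t z) (congrArg (fun t => t.left) h)).trans
            (Scheme.Hom.comp_apply _ _ _))]
      exact (gj.left z).2))⟩
    exact eq_of_agree F fun z => isEmptyElim z

end Parts

section Push

variable {X Y : Scheme.{u}} (f : X ⟶ Y) {Ω : Type u} [Field Ω] [IsAlgClosed Ω]
  (η : Spec (CommRingCat.of Ω) ⟶ Y)

/-- The map from the stalk of a direct image to the stalk at a point above. -/
noncomputable def liftStalk (l : fLifts f η) (F : EtDesc.Sh X) :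
    (Sets.stalk η).obj ((EtDesc.pushSh f).obj F) ⟶ (Sets.stalk l.1).obj F :=
  (Scheme.pointSmallEtale η).presheafFiberDesc (P := ((EtDesc.pushSh f).obj F).obj)
    (fun W w => Sets.germ l.1 F (liftAt f η w l))
    (fun W W' g w => ConcreteCategory.hom_ext _ _ fun s => by
      refine Eq.trans (Sets.germ_map l.1 F ((EtCoh.bc f).map g) (liftAt f η w l) s) ?_
      exact congrArg (fun t => Sets.germ l.1 F t s) (liftAt_map f η g w l))

lemma liftStalk_germ (l : fLifts f η) (F : EtDesc.Sh X) {W : Y.Etale} (w : fib η W)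
    (s : ((EtDesc.pushSh f).obj F).obj.obj (op W)) :
    liftStalk f η l F (Sets.germ η ((EtDesc.pushSh f).obj F) w s) = Sets.germ l.1 F (liftAt f η w l) s :=
  ConcreteCategory.congr_hom (show Sets.germ η ((EtDesc.pushSh f).obj F) w ≫ liftStalk f η l F =
      Sets.germ l.1 F (liftAt f η w l) from
    GrothendieckTopology.Point.toPresheafFiber_presheafFiberDesc (Scheme.pointSmallEtale η)
      (P := ((EtDesc.pushSh f).obj F).obj) (fun W w => Sets.germ l.1 F (liftAt f η w l)) _ W w) s

lemma liftStalk_nat (l : fLifts f η) {F G : EtDesc.Sh X} (a : F ⟶ G)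
    (p : (Sets.stalk η).obj ((EtDesc.pushSh f).obj F)) :
    liftStalk f η l G ((Sets.stalk η).map ((EtDesc.pushSh f).map a) p) =
      (Sets.stalk l.1).map a (liftStalk f η l F p) := by
  obtain ⟨W, w, s, rfl⟩ := Sets.germ_surjective _ _ p
  rw [Sets.germ_nat, liftStalk_germ, liftStalk_germ, Sets.germ_nat]
  rfl

/-- The stalk of a direct image along a finite morphism is the product of the stalks above. -/
theorem bijective_liftStalk [IsFinite f] (F : EtDesc.Sh X) :
    Function.Bijective (fun p (l : fLifts f η) => liftStalk f η l F p) := by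
  constructor
  · intro p q hpq
    obtain ⟨W, w, s, s', rfl, rfl⟩ := GrothendieckTopology.Point.toPresheafFiber_jointly_surjective₂
      (Scheme.pointSmallEtale η) (A := Type (u + 1)) (CC := fun X => X)
      (P := ((EtDesc.pushSh f).obj F).obj) p q
    change Sets.germ η ((EtDesc.pushSh f).obj F) w s = Sets.germ η ((EtDesc.pushSh f).obj F) w s'
    have hz : ∀ l, ∃ (V : X.Etale) (g : V ⟶ (EtCoh.bc f).obj W) (y : fib l.1 V),
        (Scheme.pointSmallEtale l.1).fiber.map g y = liftAt f η w l ∧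
          F.obj.map g.op s = F.obj.map g.op s' := fun l => by
      have h : liftStalk f η l F (Sets.germ η ((EtDesc.pushSh f).obj F) w s) =
          liftStalk f η l F (Sets.germ η ((EtDesc.pushSh f).obj F) w s') := congrFun hpq l
      rw [liftStalk_germ, liftStalk_germ] at h
      exact (Sets.germ_eq_iff l.1 F (liftAt f η w l) s s').1 h
    choose V m c hc he using hz
    obtain ⟨U, g, u, P, σ, hgu, hP, hσ, -⟩ := exists_refinement f η w V m c hc
    rw [← hgu, ← Sets.germ_map, ← Sets.germ_map]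
    refine congrArg (Sets.germ η ((EtDesc.pushSh f).obj F) u) ?_
    change F.obj.map ((EtCoh.bc f).map g).op s = F.obj.map ((EtCoh.bc f).map g).op s'
    refine (existsUnique_glue_parts F _ P hP fun l => F.obj.map (σ l ≫ m l).op s).unique
      (fun l => ?_) (fun l => ?_)
    · rw [← Functor.map_comp_apply, ← op_comp, ← hσ l]
    · rw [← Functor.map_comp_apply, ← op_comp, ← hσ l, op_comp, Functor.map_comp_apply,
        Functor.map_comp_apply, he]
  · intro t
    choose V c s hs using fun l => Sets.germ_surjective l.1 F (t l)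
    let w : fib η (EtCoh.top Y) := Over.homMk η (Category.comp_id _)
    have hc : ∀ l : fLifts f η,
        (Scheme.pointSmallEtale l.1).fiber.map (toBcTop f (V l)) (c l) = liftAt f η w l := fun l => by
      refine Over.OverMorphism.ext (pullback.hom_ext ?_ ((Over.w _).trans (Over.w (liftAt f η w l)).symm))
      have hid : pullback.fst (EtCoh.top Y).hom f = pullback.snd (EtCoh.top Y).hom f ≫ f :=
        (Category.comp_id _).symm.trans pullback.condition
      refine (congrArg (_ ≫ ·) hid).trans (Eq.trans ?_ (congrArg (_ ≫ ·) hid.symm))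
      exact (Category.assoc _ _ _).symm.trans ((congrArg (· ≫ f)
        ((Over.w _).trans (Over.w (liftAt f η w l)).symm)).trans (Category.assoc _ _ _))
    obtain ⟨U, g, u, P, σ, -, hP, -, hb⟩ := exists_refinement f η w V (fun l => toBcTop f (V l)) c hc
    obtain ⟨S, hS, -⟩ := existsUnique_glue_parts F _ P hP fun l => F.obj.map (σ l).op (s l)
    refine ⟨Sets.germ η ((EtDesc.pushSh f).obj F) u S, funext fun l => ?_⟩
    obtain ⟨b, hb₁, hb₂⟩ := hb l
    dsimp only
    rw [liftStalk_germ, ← hb₁, ← Sets.germ_map, hS, Sets.germ_map, hb₂, hs]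

variable [IsIntegralHom f]

/-- Germs at the points above determine an element of the stalk of a direct image. -/
theorem injective_liftStalk (F : EtDesc.Sh X) :
    Function.Injective (fun p (l : fLifts f η) => liftStalk f η l F p) := by
  intro p q hpq
  obtain ⟨W, w, s, s', rfl, rfl⟩ := GrothendieckTopology.Point.toPresheafFiber_jointly_surjective₂
    (Scheme.pointSmallEtale η) (A := Type (u + 1)) (CC := fun X => X)
    (P := ((EtDesc.pushSh f).obj F).obj) p q
  change Sets.germ η ((EtDesc.pushSh f).obj F) w s = Sets.germ η ((EtDesc.pushSh f).obj F) w s'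
  have hz : ∀ l, ∃ (U : Y.Etale) (g : U ⟶ W) (u : fib η U) (P : ((EtCoh.bc f).obj U).left.Opens),
      (Scheme.pointSmallEtale η).fiber.map g u = w ∧
      IsClosed (P : Set ((EtCoh.bc f).obj U).left) ∧ fibPt (liftAt f η u l) ∈ P ∧
      F.obj.map (EtSite.subHom _ P ≫ (EtCoh.bc f).map g).op s =
        F.obj.map (EtSite.subHom _ P ≫ (EtCoh.bc f).map g).op s' := fun l => by
    have h : liftStalk f η l F (Sets.germ η ((EtDesc.pushSh f).obj F) w s) =
        liftStalk f η l F (Sets.germ η ((EtDesc.pushSh f).obj F) w s') := congrFun hpq l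
    rw [liftStalk_germ, liftStalk_germ] at h
    obtain ⟨V, m, y, hy, he⟩ := (Sets.germ_eq_iff l.1 F (liftAt f η w l) s s').1 h
    obtain ⟨U, g, u, P, σ, hgu, hcl, hσ, b, hb, -⟩ := exists_clopen_section f η w l m y hy
    refine ⟨U, g, u, P, hgu, hcl, hb ▸ fibPt_mem_of_sub b, ?_⟩
    rw [← hσ, op_comp, Functor.map_comp_apply, Functor.map_comp_apply, he]
  choose Ul gl ul Pl hgl hcl hmem he using hz
  obtain ⟨U, g, u, ι, k, q, P, hgu, hq, -, hP, hle⟩ :=
    exists_partition f η w gl ul Pl hgl hcl hmem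
  rw [← hgu, ← Sets.germ_map, ← Sets.germ_map]
  refine congrArg (Sets.germ η ((EtDesc.pushSh f).obj F) u) ?_
  change F.obj.map ((EtCoh.bc f).map g).op s = F.obj.map ((EtCoh.bc f).map g).op s'
  have e : ∀ i, EtSite.subHom _ (P i) ≫ (EtCoh.bc f).map g =
      subMap ((EtCoh.bc f).map (q i)) (P i) (Pl (k i)) (hle i) ≫
        EtSite.subHom _ (Pl (k i)) ≫ (EtCoh.bc f).map (gl (k i)) := fun i => by
    rw [← Category.assoc, subMap_subHom, Category.assoc, ← Functor.map_comp, hq i]
  refine (existsUnique_glue_parts F _ P hP fun i =>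
    F.obj.map (EtSite.subHom _ (P i) ≫ (EtCoh.bc f).map g).op s).unique (fun i => ?_) (fun i => ?_)
  · rw [← Functor.map_comp_apply, ← op_comp]
  · rw [← Functor.map_comp_apply, ← op_comp, e i, op_comp, Functor.map_comp_apply,
      Functor.map_comp_apply, he]

/-- Gluing criterion: a locally constant family of germs at the points above comes from the stalk
of the direct image. -/
theorem mem_range_liftStalk (F : EtDesc.Sh X) (t : ∀ l : fLifts f η, ((Sets.stalk l.1).obj F : Type _))
    (ht : ∀ l, ∃ (U : Y.Etale) (u : fib η U) (P : ((EtCoh.bc f).obj U).left.Opens)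
      (r : F.obj.obj (op (EtSite.sub ((EtCoh.bc f).obj U) P)))
      (O : (pullback f η : Scheme.{u}).Opens),
      IsClosed (P : Set ((EtCoh.bc f).obj U).left) ∧ fibPt (liftAt f η u l) ∈ P ∧ fpt f η l ∈ O ∧
      ∀ l', fpt f η l' ∈ O → ∀ h : fibPt (liftAt f η u l') ∈ P,
        Sets.germ l'.1 F (subFib (liftAt f η u l') P h) r = t l') :
    ∃ p, ∀ l, liftStalk f η l F p = t l := by
  choose U₁ u₁ P₁ r O hcl₁ hmem₁ hO hgerm using ht
  let w : fib η (EtCoh.top Y) := Over.homMk η (Category.comp_id _)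
  have hz : ∀ l, ∃ (U : Y.Etale) (q : U ⟶ U₁ l) (u : fib η U) (P : ((EtCoh.bc f).obj U).left.Opens),
      (Scheme.pointSmallEtale η).fiber.map q u = u₁ l ∧
      IsClosed (P : Set ((EtCoh.bc f).obj U).left) ∧ fibPt (liftAt f η u l) ∈ P ∧
      P ≤ ((EtCoh.bc f).map q).left ⁻¹ᵁ P₁ l ∧ ∀ z, fibHom f η u z ∈ P → z ∈ O l := fun l => by
    obtain ⟨U, q, u, P, hqu, hcl, hmem, hsub⟩ := exists_clopen_nhd f η (u₁ l) l (O l) (hO l)
    refine ⟨U, q, u, P ⊓ ((EtCoh.bc f).map q).left ⁻¹ᵁ P₁ l, hqu,
      hcl.inter ((hcl₁ l).preimage ((EtCoh.bc f).map q).left.continuous), ⟨hmem, ?_⟩,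
      inf_le_right, fun z hz => hsub z hz.1⟩
    show ((EtCoh.bc f).map q).left _ ∈ P₁ l
    rw [← fibHom_fpt, ← Scheme.Hom.comp_apply, fibHom_map, hqu, fibHom_fpt]
    exact hmem₁ l
  choose U₂ q₂ u₂ P₂ hqu₂ hcl₂ hmem₂ hle₂ hsub₂ using hz
  let top₂ : ∀ l, U₂ l ⟶ EtCoh.top Y := fun l => MorphismProperty.Over.homMk (U₂ l).hom
  obtain ⟨U, g, u, ι, k, q, P, -, -, hqu, hP, hle⟩ :=
    exists_partition f η w top₂ u₂ P₂ (fun l => Over.OverMorphism.ext (Over.w (u₂ l))) hcl₂ hmem₂
  let τ : ∀ i, EtSite.sub ((EtCoh.bc f).obj U) (P i) ⟶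
      EtSite.sub ((EtCoh.bc f).obj (U₁ (k i))) (P₁ (k i)) := fun i =>
    subMap ((EtCoh.bc f).map (q i)) (P i) (P₂ (k i)) (hle i) ≫
      subMap ((EtCoh.bc f).map (q₂ (k i))) (P₂ (k i)) (P₁ (k i)) (hle₂ (k i))
  obtain ⟨S, hS, -⟩ := existsUnique_glue_parts F _ P hP fun i => F.obj.map (τ i).op (r (k i))
  refine ⟨Sets.germ η ((EtDesc.pushSh f).obj F) u S, fun l => ?_⟩
  rw [liftStalk_germ]
  obtain ⟨i, hi, -⟩ := hP (fibPt (liftAt f η u l))
  have h₂ : fibHom f η (u₂ (k i)) (fpt f η l) ∈ P₂ (k i) := by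
    rw [← hqu i, ← fibHom_map, Scheme.Hom.comp_apply, fibHom_fpt]
    exact hle i hi
  have h₁ : fibPt (liftAt f η (u₁ (k i)) l) ∈ P₁ (k i) := by
    rw [← fibHom_fpt, ← hqu₂ (k i), ← fibHom_map, Scheme.Hom.comp_apply]
    exact hle₂ (k i) h₂
  rw [← subFib_map (liftAt f η u l) (P i) hi, ← Sets.germ_map, hS, Sets.germ_map,
    ← hgerm (k i) l (hsub₂ (k i) _ h₂) h₁]
  refine congrArg (fun z => Sets.germ l.1 F z (r (k i))) (fib_sub_ext _ _ ?_)
  rw [subFib_map, ← ConcreteCategory.comp_apply, ← Functor.map_comp]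
  simp only [τ, Category.assoc, subMap_subHom]
  rw [← Category.assoc, subMap_subHom, Category.assoc, ← Functor.map_comp, Functor.map_comp_apply,
    subFib_map, liftAt_map, Functor.map_comp_apply, hqu, hqu₂]

set_option backward.isDefEq.respectTransparency.types false in
lemma exists_clopen_rep (F : EtDesc.Sh X) (l : fLifts f η) (t : (Sets.stalk l.1).obj F) :
    ∃ (U : Y.Etale) (u : fib η U) (P : ((EtCoh.bc f).obj U).left.Opens)
      (r : F.obj.obj (op (EtSite.sub ((EtCoh.bc f).obj U) P))),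
      IsClosed (P : Set ((EtCoh.bc f).obj U).left) ∧
      ∃ h : fibPt (liftAt f η u l) ∈ P, Sets.germ l.1 F (subFib (liftAt f η u l) P h) r = t := by
  obtain ⟨V, c, s, rfl⟩ := Sets.germ_surjective l.1 F t
  let w : fib η (EtCoh.top Y) := Over.homMk η (Category.comp_id _)
  have hc : (Scheme.pointSmallEtale l.1).fiber.map (toBcTop f V) c = liftAt f η w l := by
    refine Over.OverMorphism.ext (pullback.hom_ext ?_ ((Over.w _).trans (Over.w (liftAt f η w l)).symm))
    have hid : pullback.fst (EtCoh.top Y).hom f = pullback.snd (EtCoh.top Y).hom f ≫ f :=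
      (Category.comp_id _).symm.trans pullback.condition
    refine (congrArg (_ ≫ ·) hid).trans (Eq.trans ?_ (congrArg (_ ≫ ·) hid.symm))
    exact (Category.assoc _ _ _).symm.trans ((congrArg (· ≫ f)
      ((Over.w _).trans (Over.w (liftAt f η w l)).symm)).trans (Category.assoc _ _ _))
  obtain ⟨U, g, u, P, σ, -, hcl, -, b, hb, hσb⟩ := exists_clopen_section f η w l (toBcTop f V) c hc
  have hm : fibPt (liftAt f η u l) ∈ P := hb ▸ fibPt_mem_of_sub b
  refine ⟨U, u, P, F.obj.map σ.op s, hcl, hm, ?_⟩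
  rw [fib_sub_ext (subFib (liftAt f η u l) P hm) b ((subFib_map _ _ _).trans hb.symm), Sets.germ_map, hσb]

end Push

section BaseChange

variable {X Y X' Y' : Scheme.{u}} (f : X ⟶ Y) (g : Y' ⟶ Y) (f' : X' ⟶ Y') (g' : X' ⟶ X)
  (w : g' ≫ f = f' ≫ g)

set_option backward.isDefEq.respectTransparency.types false in
lemma baseChange0_germ (F : EtDesc.Sh X) {W : Y.Etale}
    (s : ((EtDesc.pushSh f).obj F).obj.obj (op W)) :
    (EtBC.baseChange0Sh f g f' g' w F).hom.app (op ((EtCoh.bc g).obj W))
        (((EtDesc.adjSh g).unit.app ((EtDesc.pushSh f).obj F)).hom.app (op W) s) =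
      ((EtDesc.pullSh g').obj F).obj.map (sqHom f g f' g' w W).op
        (((EtDesc.adjSh g').unit.app F).hom.app (op ((EtCoh.bc f).obj W)) s) := by
  have h : (EtDesc.adjSh g).unit.app ((EtDesc.pushSh f).obj F) ≫
      (EtDesc.pushSh g).map (EtBC.baseChange0Sh f g f' g' w F) =
      (EtDesc.pushSh f).map ((EtDesc.adjSh g').unit.app F) ≫ (EtDesc.pushCompSh f g').hom.app _ ≫
        (EtBC.pushCongrSh w).hom.app _ ≫ (EtDesc.pushCompSh g f').inv.app _ := by
    exact ((EtDesc.adjSh g).homEquiv_unit _ _ _).symm.trans (Equiv.apply_symm_apply _ _)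
  refine (congrArg (fun t : (EtDesc.pushSh f).obj F ⟶ (EtDesc.pushSh g).obj ((EtDesc.pushSh f').obj
    ((EtDesc.pullSh g').obj F)) => t.hom.app (op W) s) h).trans ?_
  simp only [sqHom, op_comp, Functor.map_comp_apply]
  rfl

variable {Ω : Type u} [Field Ω] [IsAlgClosed Ω] (η' : Spec (CommRingCat.of Ω) ⟶ Y')

set_option backward.isDefEq.respectTransparency.types false in
lemma liftStalk_baseChange0 (F : EtDesc.Sh X) (l' : fLifts f' η')
    (p : (Sets.stalk (η' ≫ g)).obj ((EtDesc.pushSh f).obj F)) :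
    liftStalk f' η' l' ((EtDesc.pullSh g').obj F)
        ((Sets.stalk η').map (EtBC.baseChange0Sh f g f' g' w F)
          (Sets.stalkPull g η' ((EtDesc.pushSh f).obj F) p)) =
      Sets.stalkPull g' l'.1 F (liftStalk f (η' ≫ g) (downLift f g f' g' w η' l') F p) := by
  obtain ⟨W, x, s, rfl⟩ := Sets.germ_surjective _ _ p
  rw [Sets.germ_stalkPull, Sets.germ_nat, baseChange0_germ, liftStalk_germ, liftStalk_germ]
  refine Eq.trans ?_ (Sets.germ_stalkPull g' l'.1 F (liftAt f (η' ≫ g) x (downLift f g f' g' w η' l')) s).symm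
  refine (Sets.germ_map l'.1 ((EtDesc.pullSh g').obj F) (sqHom f g f' g' w W)
    (liftAt f' η' (liftFib g η' x) l') _).trans ?_
  refine congrArg (fun t => Sets.germ l'.1 ((EtDesc.pullSh g').obj F) t _) (fib_iter_ext f g' _ _ ?_)
  refine (Category.assoc _ _ _).trans ((congrArg (_ ≫ ·) (sqHom_fst f g f' g' w W)).trans ?_)
  refine (Category.assoc _ _ _).symm.trans ((congrArg (· ≫ bcFst g W) (liftAt_left_fst _ _ _ _)).trans ?_)
  refine (pullback.lift_fst _ _ _).trans (Eq.symm ?_)
  refine (Category.assoc _ _ _).symm.trans ((congrArg (· ≫ bcFst f W) (pullback.lift_fst _ _ _)).trans ?_)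
  exact liftAt_left_fst _ _ _ _

set_option backward.isDefEq.respectTransparency.types false in
/-- Pullback of germs from the point below to a point above. -/
noncomputable def downStalk (F : EtDesc.Sh X) (l' : fLifts f' η') :
    (Sets.stalk (downLift f g f' g' w η' l').1).obj F ⟶ (Sets.stalk l'.1).obj ((EtDesc.pullSh g').obj F) :=
  Sets.stalkPull g' l'.1 F

set_option backward.isDefEq.respectTransparency.types false in
lemma bijective_downStalk (F : EtDesc.Sh X) (l' : fLifts f' η') :
    Function.Bijective (downStalk f g f' g' w η' F l') :=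
  ConcreteCategory.bijective_of_isIso (Sets.stalkPull g' l'.1 F)

set_option backward.isDefEq.respectTransparency.types false in
lemma exists_downFamily [IsIntegralHom f] (h : IsPullback g' f' f g) (F : EtDesc.Sh X)
    (s : ∀ l' : fLifts f' η', ((Sets.stalk l'.1).obj ((EtDesc.pullSh g').obj F) : Type _)) :
    ∃ t : ∀ l : fLifts f (η' ≫ g), ((Sets.stalk l.1).obj F : Type _),
      ∀ l', downStalk f g f' g' h.w η' F l' (t (downLift f g f' g' h.w η' l')) = s l' := by
  choose r hr using fun l' => (bijective_downStalk f g f' g' h.w η' F l').2 (s l')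
  let E := Equiv.ofBijective _ (bijective_downLift f g f' g' η' h)
  refine ⟨(Equiv.piCongrLeft (fun l : fLifts f (η' ≫ g) => ↑((Sets.stalk l.1).obj F)) E) r, fun l' => ?_⟩
  exact (congrArg (downStalk f g f' g' h.w η' F l') (Equiv.piCongrLeft_apply_apply (fun l : fLifts f (η' ≫ g) => ↑((Sets.stalk l.1).obj F)) E r l')).trans (hr l')

set_option backward.isDefEq.respectTransparency.types false in
omit w in
/-- Base change in degree zero for integral morphisms. -/
theorem isIso_baseChange0_integral [IsIntegralHom f] (h : IsPullback g' f' f g) (F : EtDesc.Sh X) :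
    IsIso (EtBC.baseChange0Sh f g f' g' h.w F) := by
  classical
  haveI : IsIntegralHom f' := MorphismProperty.of_isPullback h ‹IsIntegralHom f›
  rw [isIso_iff_stalk_alg]
  intro Ω _ _ η'
  have hdown := bijective_downLift f g f' g' η' h
  have hs := ConcreteCategory.bijective_of_isIso (Sets.stalkPull g η' ((EtDesc.pushSh f).obj F))
  refine (Function.Bijective.of_comp_iff _ hs).1 ⟨fun p q hpq => ?_, fun q => ?_⟩
  · refine injective_liftStalk f (η' ≫ g) F (funext fun l => ?_)
    obtain ⟨l', rfl⟩ := hdown.2 l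
    refine (ConcreteCategory.bijective_of_isIso (Sets.stalkPull g' l'.1 F)).1 ?_
    refine (liftStalk_baseChange0 f g f' g' h.w η' F l' p).symm.trans
      ((congrArg (liftStalk f' η' l' _) hpq).trans (liftStalk_baseChange0 f g f' g' h.w η' F l' q))
  · obtain ⟨W', w', t, rfl⟩ := Sets.germ_surjective _ _ q
    obtain ⟨tgt, htgt⟩ := exists_downFamily f g f' g' η' h F fun l' =>
      liftStalk f' η' l' ((EtDesc.pullSh g').obj F) (Sets.germ η' ((EtDesc.pushSh f').obj ((EtDesc.pullSh g').obj F)) w' t)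
    suffices H : ∃ p, ∀ l, liftStalk f (η' ≫ g) l F p = tgt l by
      obtain ⟨p, hp⟩ := H
      refine ⟨p, injective_liftStalk f' η' _ (funext fun l' => ?_)⟩
      exact (liftStalk_baseChange0 f g f' g' h.w η' F l' p).trans
        ((congrArg (downStalk f g f' g' h.w η' F l') (hp _)).trans (htgt l'))
    refine mem_range_liftStalk f (η' ≫ g) F tgt fun l => ?_
    obtain ⟨U, u, P, r, hcl, hmem, hr⟩ := exists_clopen_rep f (η' ≫ g) F l (tgt l)
    let top' : fib η' (EtCoh.top Y') := Over.homMk η' (Category.comp_id _)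
    let a₁ : W' ⟶ EtCoh.top Y' := MorphismProperty.Over.homMk W'.hom
    let a₂ : (EtCoh.bc g).obj U ⟶ EtCoh.top Y' := MorphismProperty.Over.homMk ((EtCoh.bc g).obj U).hom
    obtain ⟨U'', q₁, q₂, u'', -, hu₁, hu₂⟩ := exists_common η' (w := top') a₁ a₂ w' (liftFib g η' u)
      (Over.OverMorphism.ext (Over.w w')) (Over.OverMorphism.ext (Over.w (liftFib g η' u)))
    let A := (EtCoh.bc f).obj U
    let A' := (EtCoh.bc f').obj U''
    let κ : A' ⟶ (EtCoh.bc g').obj A := (EtCoh.bc f').map q₂ ≫ sqHom f g f' g' h.w U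
    let P'' : A'.left.Opens := (κ.left ≫ bcFst g' A) ⁻¹ᵁ P
    let B := EtSite.sub A' P''
    have hrange : Set.range (P''.ι ≫ κ.left ≫ bcFst g' A) ⊆ Set.range P.ι := by
      rintro _ ⟨z, rfl⟩
      rw [Scheme.Opens.range_ι, Scheme.Hom.comp_apply]
      exact z.2
    let k := IsOpenImmersion.lift P.ι (P''.ι ≫ κ.left ≫ bcFst g' A) hrange
    have hk : k ≫ P.ι = P''.ι ≫ κ.left ≫ bcFst g' A := IsOpenImmersion.lift_fac _ _ _
    let ψ : B ⟶ (EtCoh.bc g').obj (EtSite.sub A P) :=
      MorphismProperty.Over.homMk (pullback.lift k (P''.ι ≫ A'.hom) (by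
        refine (Category.assoc _ _ _).symm.trans ((congrArg (· ≫ A.hom) hk).trans ?_)
        refine (Category.assoc _ _ _).trans ((congrArg (P''.ι ≫ ·) ?_).trans (Category.assoc _ _ _).symm)
        refine (Category.assoc _ _ _).trans ((congrArg (κ.left ≫ ·) pullback.condition).trans ?_)
        exact (Category.assoc _ _ _).symm.trans (congrArg (· ≫ g') (MorphismProperty.Over.w κ))))
        (pullback.lift_snd _ _ _)
    let s₁ := ((EtDesc.pullSh g').obj F).obj.map (EtSite.subHom A' P'' ≫ (EtCoh.bc f').map q₁).op t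
    let s₂ := ((EtDesc.pullSh g').obj F).obj.map ψ.op
      (((EtDesc.adjSh g').unit.app F).hom.app (op (EtSite.sub A P)) r)
    let G : A'.left.Opens := ⟨P''.ι '' agree ((EtDesc.pullSh g').obj F) (U := B) s₁ s₂,
      P''.ι.isOpenMap _ (isOpen_agree _ s₁ s₂)⟩
    -- the points of the fibre of `X'` in the good set
    have hκ : ∀ l' : fLifts f' η', bcFst g' A (κ.left (fibPt (liftAt f' η' u'' l'))) =
        fibPt (liftAt f (η' ≫ g) u (downLift f g f' g' h.w η' l')) ∧
        (liftAt f' η' u'' l').left ≫ κ.left ≫ bcFst g' A =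
          (liftAt f (η' ≫ g) u (downLift f g f' g' h.w η' l')).left := by
      intro l'
      have e : (liftAt f' η' u'' l').left ≫ κ.left ≫ bcFst g' A =
          (liftAt f (η' ≫ g) u (downLift f g f' g' h.w η' l')).left := by
        refine pullback.hom_ext ?_ ?_
        · refine Eq.trans ?_ (liftAt_left_fst f (η' ≫ g) u (downLift f g f' g' h.w η' l')).symm
          have e₂ : κ.left ≫ bcFst g' A ≫ bcFst f U =
              ((EtCoh.bc f').map q₂).left ≫ bcFst f' ((EtCoh.bc g).obj U) ≫ bcFst g U :=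
            (Category.assoc _ _ _).trans (congrArg (_ ≫ ·) (sqHom_fst f g f' g' h.w U))
          simp only [Category.assoc]
          refine (congrArg (_ ≫ ·) e₂).trans ?_
          refine (congrArg (_ ≫ ·) ((Category.assoc _ _ _).symm.trans
            ((congrArg (· ≫ bcFst g U) (bcFst_nat f' q₂)).trans (Category.assoc _ _ _)))).trans ?_
          refine (Category.assoc _ _ _).symm.trans ((congrArg (· ≫ _) (liftAt_left_fst f' η' u'' l')).trans ?_)
          refine (Category.assoc _ _ _).symm.trans ((congrArg (· ≫ bcFst g U)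
            (congrArg (fun t : fib η' ((EtCoh.bc g).obj U) => t.left) hu₂)).trans ?_)
          exact pullback.lift_fst _ _ _
        · refine Eq.trans ?_ (Over.w (liftAt f (η' ≫ g) u (downLift f g f' g' h.w η' l'))).symm
          simp only [Category.assoc]
          refine (congrArg (_ ≫ ·) ((congrArg (κ.left ≫ ·) pullback.condition).trans
            ((Category.assoc _ _ _).symm.trans (congrArg (· ≫ g') (MorphismProperty.Over.w κ))))).trans ?_
          exact (Category.assoc _ _ _).symm.trans (congrArg (· ≫ g') (Over.w (liftAt f' η' u'' l')))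
      refine ⟨?_, e⟩
      refine Eq.trans ?_ (congrArg (fun a => a (default : Spec (CommRingCat.of Ω))) e)
      rw [Scheme.Hom.comp_apply, Scheme.Hom.comp_apply]
      rfl
    have hgood : ∀ l' : fLifts f' η', fibHom f' η' u'' (fpt f' η' l') ∈ G ↔
        ∃ hP : fibPt (liftAt f (η' ≫ g) u (downLift f g f' g' h.w η' l')) ∈ P,
          Sets.germ _ F (subFib _ P hP) r = tgt (downLift f g f' g' h.w η' l') := by
      intro l'
      rw [fibHom_fpt]
      have hP'' : fibPt (liftAt f' η' u'' l') ∈ P'' ↔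
          fibPt (liftAt f (η' ≫ g) u (downLift f g f' g' h.w η' l')) ∈ P := by
        rw [← (hκ l').1]
        exact Iff.rfl
      have hval : ∀ (hb : fibPt (liftAt f' η' u'' l') ∈ P''),
          (fibPt (subFib (liftAt f' η' u'' l') P'' hb) ∈
              agree ((EtDesc.pullSh g').obj F) (U := B) s₁ s₂ ↔
            Sets.germ _ F (subFib _ P (hP''.1 hb)) r = tgt (downLift f g f' g' h.w η' l')) := by
        intro hb
        rw [mem_agree_iff_germ, ← (bijective_downStalk f g f' g' h.w η' F l').1.eq_iff,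
          htgt, liftStalk_germ]
        have e₁ : Sets.germ l'.1 ((EtDesc.pullSh g').obj F) (subFib (liftAt f' η' u'' l') P'' hb) s₁ =
            Sets.germ l'.1 ((EtDesc.pullSh g').obj F) (liftAt f' η' w' l') t := by
          simp only [s₁]
          rw [Sets.germ_map, Functor.map_comp_apply, subFib_map, liftAt_map, hu₁]
        have e₂ : Sets.germ l'.1 ((EtDesc.pullSh g').obj F) (subFib (liftAt f' η' u'' l') P'' hb) s₂ =
            downStalk f g f' g' h.w η' F l' (Sets.germ _ F (subFib _ P (hP''.1 hb)) r) := by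
          refine (Sets.germ_map l'.1 ((EtDesc.pullSh g').obj F) ψ _ _).trans (Eq.trans ?_ (Sets.germ_stalkPull g' l'.1 F _ r).symm)
          refine congrArg (fun z => Sets.germ l'.1 ((EtDesc.pullSh g').obj F) z _) (Over.OverMorphism.ext (pullback.hom_ext ?_ ?_))
          · refine (Category.assoc _ _ _).trans ((congrArg (_ ≫ ·) (pullback.lift_fst _ _ _)).trans ?_)
            refine Eq.trans ?_ (pullback.lift_fst _ _ _).symm
            refine (cancel_mono P.ι).1 ((Category.assoc _ _ _).trans ?_)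
            refine (congrArg (_ ≫ ·) hk).trans ?_
            refine (Category.assoc _ _ _).symm.trans ((congrArg (· ≫ _)
              (congrArg (fun t : fib l'.1 A' => t.left) (subFib_map (liftAt f' η' u'' l') P'' hb))).trans ?_)
            refine (hκ l').2.trans ?_
            exact (congrArg (fun t : fib (l'.1 ≫ g') A => t.left)
              (subFib_map (liftAt f (η' ≫ g) u (downLift f g f' g' h.w η' l')) P (hP''.1 hb))).symm
          · exact (Over.w _).trans (Over.w (liftFib g' l'.1 (subFib (liftAt f (η' ≫ g) u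
              (downLift f g f' g' h.w η' l')) P (hP''.1 hb)))).symm
        rw [e₁, e₂]
        exact eq_comm
      have hpt : ∀ hb, P''.ι (fibPt (subFib (liftAt f' η' u'' l') P'' hb)) =
          fibPt (liftAt f' η' u'' l') := fun hb =>
        congrArg fibPt (subFib_map (liftAt f' η' u'' l') P'' hb)
      constructor
      · rintro ⟨x, hx, hxe⟩
        have hb : fibPt (liftAt f' η' u'' l') ∈ P'' := hxe ▸ x.2
        have hxe' : x = fibPt (subFib (liftAt f' η' u'' l') P'' hb) :=
          P''.ι.injective (hxe.trans (hpt hb).symm)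
        exact ⟨hP''.1 hb, (hval hb).1 (hxe' ▸ hx)⟩
      · rintro ⟨hP, he⟩
        exact ⟨_, (hval (hP''.2 hP)).2 he, hpt _⟩
    let O : (pullback f (η' ≫ g) : Scheme.{u}).Opens :=
      ⟨(fibreDown f g f' g' h.w η' '' ((fibHom f' η' u'') ⁻¹' (G : Set A'.left)ᶜ))ᶜ,
        (isClosedMap_fibreDown f g f' g' h.w η' _
          ((G.2.isClosed_compl).preimage (fibHom f' η' u'').continuous)).isOpen_compl⟩
    refine ⟨U, u, P, r, O, hcl, hmem, ?_, fun l₁ hl₁ hl₁P => ?_⟩
    · rintro ⟨z, hz, hzl⟩
      obtain ⟨l', rfl⟩ := fpt_surjective f' η' z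
      rw [fibreDown_fpt] at hzl
      obtain rfl := fpt_injective f (η' ≫ g) hzl
      exact hz ((hgood l').2 ⟨hmem, hr⟩)
    · obtain ⟨l', rfl⟩ := hdown.2 l₁
      have hG : fibHom f' η' u'' (fpt f' η' l') ∈ G := by
        by_contra hn
        exact hl₁ ⟨_, hn, fibreDown_fpt f g f' g' h.w η' l'⟩
      exact ((hgood l').1 hG).2

end BaseChange

end Groth.Agent.EtDesc24

namespace Groth.Agent.EtDesc24

variable {X Y : Scheme.{u}} (f : X ⟶ Y) {Ω : Type u} [Field Ω] [IsAlgClosed Ω]
  (η : Spec (CommRingCat.of Ω) ⟶ Y)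

/-- Restriction of germs of a direct image to the points above. -/
noncomputable def liftStalkPi : EtDesc.pushSh f ⋙ Sets.stalk η ⟶
    ∏ᶜ fun l : fLifts f η => (Sets.stalk l.1 : EtDesc.Sh X ⥤ Type (u + 1)) :=
  Pi.lift fun l =>
    { app := fun F => liftStalk f η l F
      naturality := fun F G a => ConcreteCategory.hom_ext _ _ fun p => liftStalk_nat f η l a p }

lemma liftStalkPi_π (l : fLifts f η) (F : EtDesc.Sh X) (p : (Sets.stalk η).obj ((EtDesc.pushSh f).obj F)) :
    (Pi.π (fun l : fLifts f η => (Sets.stalk l.1 : EtDesc.Sh X ⥤ Type (u + 1))) l).app F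
      ((liftStalkPi f η).app F p) = liftStalk f η l F p :=
  ConcreteCategory.congr_hom (congrArg (fun t => NatTrans.app t F)
    (Pi.lift_π (f := fun l : fLifts f η => (Sets.stalk l.1 : EtDesc.Sh X ⥤ Type (u + 1)))
      (fun l => ({ app := fun F => liftStalk f η l F
                   naturality := fun F G a => ConcreteCategory.hom_ext _ _ fun p => liftStalk_nat f η l a p } :
        EtDesc.pushSh f ⋙ Sets.stalk η ⟶ Sets.stalk l.1)) l)) p

theorem isIso_liftStalkPi [IsFinite f] : IsIso (liftStalkPi f η) := by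
  rw [NatTrans.isIso_iff_isIso_app]
  intro F
  rw [ConcreteCategory.isIso_iff_bijective]
  let D : Discrete (fLifts f η) ⥤ EtDesc.Sh X ⥤ Type (u + 1) :=
    Discrete.functor fun l : fLifts f η => (Sets.stalk l.1 : EtDesc.Sh X ⥤ Type (u + 1))
  have hlim : IsLimit (((evaluation _ _).obj F).mapCone (limit.cone D)) :=
    isLimitOfPreserves _ (limit.isLimit D)
  constructor
  · intro p q h
    refine (bijective_liftStalk f η F).1 (funext fun l => ?_)
    change liftStalk f η l F p = liftStalk f η l F q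
    rw [← liftStalkPi_π, ← liftStalkPi_π, h]
  · intro z
    obtain ⟨p, hp⟩ := (bijective_liftStalk f η F).2 fun l =>
      (Pi.π (fun l : fLifts f η => (Sets.stalk l.1 : EtDesc.Sh X ⥤ Type (u + 1))) l).app F z
    refine ⟨p, Concrete.isLimit_ext _ hlim _ _ fun ⟨l⟩ => ?_⟩
    exact (liftStalkPi_π f η l F p).trans (congrFun hp l)

end Groth.Agent.EtDesc24
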