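import Groth.Agent.Lib.EtDesc24.PullVia
import Groth.Agent.Lib.EtDesc24.SetsPush
import Groth.Agent.Lib.EtStalk.Sets.Surjective

/-!
# Descent of sections of étale sheaves of sets along universally submersive morphisms
-/

universe u

open CategoryTheory CategoryTheory.Limits AlgebraicGeometry Opposite
open Groth.Agent.EtStalk

namespace Groth.Agent.EtDesc24

variable {X' X : Scheme.{u}} (f : X' ⟶ X)

/-- A section of a sheaf, pulled back to the base change. -/
noncomputable def unitAt (F : EtDesc.Sh X) (U : X.Etale) (t : F.obj.obj (op U)) :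
    ((EtDesc.pullSh f).obj F).obj.obj (op ((EtCoh.bc f).obj U)) :=
  ((EtDesc.adjSh f).unit.app F).hom.app (op U) t

lemma unitAt_map (F : EtDesc.Sh X) {U V : X.Etale} (g : V ⟶ U) (t : F.obj.obj (op U)) :
    unitAt f F V (F.obj.map g.op t) =
      ((EtDesc.pullSh f).obj F).obj.map ((EtCoh.bc f).map g).op (unitAt f F U t) :=
  NatTrans.naturality_apply ((EtDesc.adjSh f).unit.app F).hom g.op t

lemma unitAt_nat {F G : EtDesc.Sh X} (a : F ⟶ G) (U : X.Etale) (t : F.obj.obj (op U)) :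
    ((EtDesc.pullSh f).map a).hom.app (op ((EtCoh.bc f).obj U)) (unitAt f F U t) =
      unitAt f G U (a.hom.app (op U) t) :=
  (congrArg (fun s : F ⟶ (EtDesc.pushSh f).obj ((EtDesc.pullSh f).obj G) => s.hom.app (op U) t)
    ((EtDesc.adjSh f).unit.naturality a)).symm

lemma map_trans_symm {C : Type*} [Category C] (Φ : C ⥤ Type (u + 1)) {A A' B : C} (e₁ : A ≅ B) (e₂ : A' ≅ B)
    (p : Φ.obj A) (q : Φ.obj A') (h : Φ.map e₁.hom p = Φ.map e₂.hom q) :
    Φ.map (e₁ ≪≫ e₂.symm).hom p = q := by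
  rw [Iso.trans_hom, Iso.symm_hom, Functor.map_comp_apply, h, ← Functor.map_comp_apply, e₂.hom_inv_id,
    CategoryTheory.Functor.map_id]
  rfl

section Points

variable {Ω : Type u} [Field Ω] [IsSepClosed Ω]

set_option backward.isDefEq.respectTransparency.types false in
lemma germ_unitAt (η : Spec (CommRingCat.of Ω) ⟶ X') (F : EtDesc.Sh X) {V : X.Etale}
    (x : fib η ((EtCoh.bc f).obj V)) (t : F.obj.obj (op V)) :
    Sets.germ η ((EtDesc.pullSh f).obj F) x (unitAt f F V t) =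
      Sets.stalkPull f η F (Sets.germ (η ≫ f) F (dropFib f η x) t) := by
  rw [Sets.germ_stalkPull, show liftFib f η (dropFib f η x) = x from
    ((fiberIso f η).app V).toEquiv.apply_symm_apply x]
  rfl

lemma bcFst_fibPt_liftFib (ξ : Spec (CommRingCat.of Ω) ⟶ X') {V : X.Etale} (y : fib (ξ ≫ f) V) :
    bcFst f V (fibPt (liftFib f ξ y)) = fibPt y := by
  have e : dropFib f ξ (liftFib f ξ y) = y := ((fiberIso f ξ).app V).toEquiv.symm_apply_apply y
  exact (rfl : _ = fibPt (dropFib f ξ (liftFib f ξ y))).trans (congrArg fibPt e)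

/-- Two germs of an inverse image at two points over one point of `X` correspond. -/
def Rel (F : EtDesc.Sh X) (η : Spec (CommRingCat.of Ω) ⟶ EtDesc.X2 f)
    (p₁ : (Sets.stalk (η ≫ pullback.fst f f)).obj ((EtDesc.pullSh f).obj F))
    (p₂ : (Sets.stalk (η ≫ pullback.snd f f)).obj ((EtDesc.pullSh f).obj F)) : Prop :=
  (Sets.stalk η).map (EtDesc.canIso f F).hom
      (Sets.stalkPull (pullback.fst f f) η ((EtDesc.pullSh f).obj F) p₁) =
    Sets.stalkPull (pullback.snd f f) η ((EtDesc.pullSh f).obj F) p₂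

lemma rel_unique {F : EtDesc.Sh X} {η : Spec (CommRingCat.of Ω) ⟶ EtDesc.X2 f}
    {p₁ : (Sets.stalk (η ≫ pullback.fst f f)).obj ((EtDesc.pullSh f).obj F)}
    {p₂ q₂ : (Sets.stalk (η ≫ pullback.snd f f)).obj ((EtDesc.pullSh f).obj F)}
    (h : Rel f F η p₁ p₂) (h' : Rel f F η p₁ q₂) : p₂ = q₂ :=
  (ConcreteCategory.bijective_of_isIso
    (Sets.stalkPull (pullback.snd f f) η ((EtDesc.pullSh f).obj F))).1 (h.symm.trans h')

lemma rel_exists (F : EtDesc.Sh X) (η : Spec (CommRingCat.of Ω) ⟶ EtDesc.X2 f)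
    (p₁ : (Sets.stalk (η ≫ pullback.fst f f)).obj ((EtDesc.pullSh f).obj F)) :
    ∃ p₂, Rel f F η p₁ p₂ := by
  obtain ⟨p₂, hp₂⟩ := (ConcreteCategory.bijective_of_isIso
    (Sets.stalkPull (pullback.snd f f) η ((EtDesc.pullSh f).obj F))).2
      ((Sets.stalk η).map (EtDesc.canIso f F).hom
        (Sets.stalkPull (pullback.fst f f) η ((EtDesc.pullSh f).obj F) p₁))
  exact ⟨p₂, hp₂.symm⟩

lemma rel_map {F G : EtDesc.Sh X} (a : (EtDesc.pullSh f).obj F ⟶ (EtDesc.pullSh f).obj G)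
    (ha : (EtDesc.canIso f F).hom ≫ (EtDesc.pullSh (pullback.snd f f)).map a =
      (EtDesc.pullSh (pullback.fst f f)).map a ≫ (EtDesc.canIso f G).hom)
    {η : Spec (CommRingCat.of Ω) ⟶ EtDesc.X2 f}
    {p₁ : (Sets.stalk (η ≫ pullback.fst f f)).obj ((EtDesc.pullSh f).obj F)}
    {p₂ : (Sets.stalk (η ≫ pullback.snd f f)).obj ((EtDesc.pullSh f).obj F)}
    (h : Rel f F η p₁ p₂) :
    Rel f G η ((Sets.stalk (η ≫ pullback.fst f f)).map a p₁) ((Sets.stalk (η ≫ pullback.snd f f)).map a p₂) := by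
  unfold Rel at h ⊢
  rw [← ConcreteCategory.comp_apply (((Sets.stalk (η ≫ pullback.fst f f))).map a),
    ← Sets.stalkPull_nat, ConcreteCategory.comp_apply, ← ConcreteCategory.comp_apply, ← Functor.map_comp, ← ha,
    Functor.map_comp, ConcreteCategory.comp_apply, h, ← ConcreteCategory.comp_apply, Sets.stalkPull_nat,
    ConcreteCategory.comp_apply]

set_option backward.isDefEq.respectTransparency.types false in
/-- The germs of a pulled back section correspond. -/
lemma rel_unit (F : EtDesc.Sh X) (η : Spec (CommRingCat.of Ω) ⟶ EtDesc.X2 f) {V : X.Etale}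
    (x₁ : fib (η ≫ pullback.fst f f) ((EtCoh.bc f).obj V))
    (x₂ : fib (η ≫ pullback.snd f f) ((EtCoh.bc f).obj V))
    (h : x₁.left ≫ bcFst f V = x₂.left ≫ bcFst f V) (t : F.obj.obj (op V)) :
    Rel f F η (Sets.germ _ _ x₁ (unitAt f F V t)) (Sets.germ _ _ x₂ (unitAt f F V t)) := by
  unfold Rel
  rw [germ_unitAt, germ_unitAt]
  let y : fib (η ≫ pullback.fst f f ≫ f) V := Over.homMk (dropFib f _ x₁).left
    ((Over.w (dropFib f _ x₁)).trans (Category.assoc _ _ _))
  exact map_trans_symm (Sets.stalk η)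
    (EtDesc.pullVia (pullback.fst f f) f (pullback.fst f f ≫ f) rfl F)
    (EtDesc.pullVia (pullback.snd f f) f (pullback.fst f f ≫ f) pullback.condition.symm F) _ _
    ((stalk_pullVia (pullback.fst f f) f η _ rfl F (dropFib f _ x₁) y rfl t).trans
      (stalk_pullVia (pullback.snd f f) f η _ pullback.condition.symm F (dropFib f _ x₂) y h t).symm)

end Points

/-- A section over a base change is compatible with the descent datum. -/
def Compat (F : EtDesc.Sh X) {U : X.Etale}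
    (s : ((EtDesc.pullSh f).obj F).obj.obj (op ((EtCoh.bc f).obj U))) : Prop :=
  ∀ (Ω : Type u) [Field Ω] [IsSepClosed Ω] (η : Spec (CommRingCat.of Ω) ⟶ EtDesc.X2 f)
    (x₁ : fib (η ≫ pullback.fst f f) ((EtCoh.bc f).obj U))
    (x₂ : fib (η ≫ pullback.snd f f) ((EtCoh.bc f).obj U)),
    x₁.left ≫ bcFst f U = x₂.left ≫ bcFst f U →
      Rel f F η (Sets.germ _ _ x₁ s) (Sets.germ _ _ x₂ s)

lemma compat_unitAt (F : EtDesc.Sh X) {U : X.Etale} (t : F.obj.obj (op U)) : Compat f F (unitAt f F U t) :=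
  fun _ _ _ η x₁ x₂ h => rel_unit f F η x₁ x₂ h t

lemma compat_map {F : EtDesc.Sh X} {U V : X.Etale} (g : V ⟶ U)
    {s : ((EtDesc.pullSh f).obj F).obj.obj (op ((EtCoh.bc f).obj U))} (hs : Compat f F s) :
    Compat f F (((EtDesc.pullSh f).obj F).obj.map ((EtCoh.bc f).map g).op s) := by
  intro Ω _ _ η x₁ x₂ h
  rw [Sets.germ_map, Sets.germ_map]
  refine hs Ω η _ _ ?_
  refine ((Category.assoc _ _ _).trans ((congrArg (x₁.left ≫ ·) (bcFst_nat f g)).trans
    (Category.assoc _ _ _).symm)).trans ((congrArg (· ≫ g.left) h).trans ?_)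
  exact ((Category.assoc _ _ _).trans ((congrArg (x₂.left ≫ ·) (bcFst_nat f g).symm).trans
    (Category.assoc _ _ _).symm))

/-- A property of germs invariant under the correspondence gives a saturated set of points. -/
lemma saturated_of_rel {V : X.Etale} {z₁ z₂ : ((EtCoh.bc f).obj V).left}
    (hz : bcFst f V z₁ = bcFst f V z₂) :
    ∃ (Ω : Type u) (_ : Field Ω) (_ : IsSepClosed Ω) (η : Spec (CommRingCat.of Ω) ⟶ EtDesc.X2 f)
      (x₁ : fib (η ≫ pullback.fst f f) ((EtCoh.bc f).obj V))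
      (x₂ : fib (η ≫ pullback.snd f f) ((EtCoh.bc f).obj V)),
      x₁.left ≫ bcFst f V = x₂.left ≫ bcFst f V ∧ fibPt x₁ = z₁ ∧ fibPt x₂ = z₂ := by
  obtain ⟨w, hw₁, hw₂⟩ := Scheme.Pullback.exists_preimage_pullback
    (f := bcFst f V) (g := bcFst f V) z₁ z₂ hz
  let γ := geomPt (pullback (bcFst f V) (bcFst f V)) w
  let a := γ ≫ pullback.fst (bcFst f V) (bcFst f V)
  let b := γ ≫ pullback.snd (bcFst f V) (bcFst f V)
  have hab : a ≫ bcFst f V = b ≫ bcFst f V :=
    (Category.assoc _ _ _).trans ((congrArg (γ ≫ ·) pullback.condition).trans (Category.assoc _ _ _).symm)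
  have hsn : (bcFst f V ≫ V.hom) = ((EtCoh.bc f).obj V).hom ≫ f := pullback.condition
  have hη : (a ≫ ((EtCoh.bc f).obj V).hom) ≫ f = (b ≫ ((EtCoh.bc f).obj V).hom) ≫ f := by
    rw [Category.assoc, Category.assoc]
    refine ((congrArg (a ≫ ·) hsn.symm).trans (Category.assoc _ _ _).symm).trans ?_
    exact (congrArg (· ≫ V.hom) hab).trans ((Category.assoc _ _ _).trans (congrArg (b ≫ ·) hsn))
  refine ⟨_, inferInstance, inferInstance, pullback.lift _ _ hη,
    Over.homMk a (pullback.lift_fst _ _ hη).symm, Over.homMk b (pullback.lift_snd _ _ hη).symm, hab, ?_, ?_⟩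
  · exact (Scheme.Hom.comp_apply _ _ _).trans ((congrArg _ (geomPt_default w)).trans hw₁)
  · exact (Scheme.Hom.comp_apply _ _ _).trans ((congrArg _ (geomPt_default w)).trans hw₂)

variable (hf : EtDesc.IsUnivSubmersive f)

include hf

lemma surjective_of_univSubmersive : Surjective f := by
  refine ⟨fun x => ?_⟩
  obtain ⟨z, hz⟩ := (hf X (𝟙 X)).1 x
  exact ⟨pullback.fst f (𝟙 X) z, by
    rw [← Scheme.Hom.comp_apply, pullback.condition, Category.comp_id]; exact hz⟩

lemma isQuotientMap_bcFst (V : X.Etale) : Topology.IsQuotientMap (bcFst f V) := by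
  have e : (pullbackSymmetry V.hom f).hom ≫ pullback.snd f V.hom = bcFst f V :=
    pullbackSymmetry_hom_comp_snd _ _
  rw [← e]
  exact (hf V.left V.hom).2.comp
    (Scheme.Hom.homeomorph (pullbackSymmetry V.hom f).hom).isQuotientMap

lemma unitAt_injective (F : EtDesc.Sh X) (U : X.Etale) : Function.Injective (unitAt f F U) := by
  haveI := surjective_of_univSubmersive f hf
  intro s t h
  refine Sets.ext_germ_comp f s t fun Ω _ _ η x => ?_
  refine (ConcreteCategory.bijective_of_isIso (Sets.stalkPull f η F)).1 ?_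
  rw [Sets.germ_stalkPull, Sets.germ_stalkPull]
  exact congrArg _ h

/-- Compatible sections descend. -/
theorem exists_unitAt_eq (F : EtDesc.Sh X) {U : X.Etale}
    (s : ((EtDesc.pullSh f).obj F).obj.obj (op ((EtCoh.bc f).obj U))) (hs : Compat f F s) :
    ∃ t, unitAt f F U t = s := by
  let G := (EtDesc.pullSh f).obj F
  let S : Sieve U :=
    { arrows := fun V g => ∃ t, unitAt f F V t = G.obj.map ((EtCoh.bc f).map g).op s
      downward_closed := fun {V W} g ⟨t, ht⟩ h => ⟨F.obj.map h.op t, by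
        rw [unitAt_map, ht, ← Functor.map_comp_apply, ← op_comp, ← Functor.map_comp]⟩ }
  have hS : S ∈ X.smallEtaleTopology U := by
    rw [EtSite.mem_et_iff]
    intro u
    obtain ⟨z, hz⟩ := (isQuotientMap_bcFst f hf U).surjective u
    obtain ⟨φ, hφ⟩ := exists_fib ((EtCoh.bc f).obj U) z
    obtain ⟨p, hp⟩ := (ConcreteCategory.bijective_of_isIso (Sets.stalkPull f _ F)).2 (Sets.germ _ G φ s)
    obtain ⟨V₀, y₀, t₀, rfl⟩ := Sets.germ_surjective _ F p
    obtain ⟨⟨V, y⟩, ⟨g, hg⟩, ⟨g₀, hg₀⟩, -⟩ := IsCofilteredOrEmpty.cone_objs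
      (C := (Scheme.pointSmallEtale _).fiber.Elements) ⟨U, dropFib f _ φ⟩ ⟨V₀, y₀⟩
    dsimp at hg hg₀
    let t := F.obj.map g₀.op t₀
    let s' := G.obj.map ((EtCoh.bc f).map g).op s
    have hgood : fibPt (liftFib f _ y) ∈ agree G (U := (EtCoh.bc f).obj V) (unitAt f F V t) s' := by
      rw [mem_agree_iff_germ]
      refine ((Sets.germ_stalkPull f _ F y t).symm.trans ?_).trans (Sets.germ_map _ G _ _ s).symm
      rw [← Sets.liftFib_map f _ g y, hg]
      refine Eq.trans ?_ (hp.trans (congrArg (fun x => Sets.germ _ G x s)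
        (((fiberIso f _).app U).toEquiv.apply_symm_apply φ).symm))
      exact congrArg (Sets.stalkPull f _ F)
        ((Sets.germ_map _ F g₀ y t₀).trans (congrArg (fun x => Sets.germ _ F x t₀) hg₀))
    have hsat : ∀ z₁ z₂, bcFst f V z₁ = bcFst f V z₂ → z₁ ∈ agree G (unitAt f F V t) s' →
        z₂ ∈ agree G (unitAt f F V t) s' := by
      intro z₁ z₂ hz h₁
      obtain ⟨Ω, _, _, η, x₁, x₂, hx, rfl, rfl⟩ := saturated_of_rel f hz
      rw [mem_agree_iff_germ] at h₁ ⊢
      refine rel_unique f (compat_unitAt f F t Ω η x₁ x₂ hx) ?_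
      rw [h₁]
      exact compat_map f g hs Ω η x₁ x₂ hx
    let O : V.left.Opens := ⟨bcFst f V '' agree G (unitAt f F V t) s', by
      rw [← (isQuotientMap_bcFst f hf V).isOpen_preimage]
      convert isOpen_agree G (unitAt f F V t) s' using 1
      ext w
      exact ⟨fun ⟨w', h', e⟩ => hsat w' w e h', fun h' => ⟨w, h', rfl⟩⟩⟩
    have hyO : fibPt y ∈ O := ⟨_, hgood, bcFst_fibPt_liftFib f _ y⟩
    refine ⟨EtSite.sub V O, EtSite.subHom V O ≫ g, ⟨fibPt y, hyO⟩, ⟨F.obj.map (EtSite.subHom V O).op t, ?_⟩, ?_⟩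
    · rw [unitAt_map, Functor.map_comp, op_comp, Functor.map_comp_apply]
      refine eq_of_agree G fun w => ?_
      obtain ⟨φw, hφw⟩ := exists_fib ((EtCoh.bc f).obj (EtSite.sub V O)) w
      refine hφw ▸ (mem_agree_iff_germ G φw _ _).2 ?_
      rw [Sets.germ_map, Sets.germ_map, ← mem_agree_iff_germ]
      have hm : bcFst f V (((EtCoh.bc f).map (EtSite.subHom V O)).left (fibPt φw)) ∈ O := by
        rw [← Scheme.Hom.comp_apply, bcFst_nat, Scheme.Hom.comp_apply]
        exact (bcFst f (EtSite.sub V O) (fibPt φw)).2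
      obtain ⟨w', hw', e⟩ := hm
      exact hsat _ _ e hw'
    · refine (Scheme.Hom.comp_apply _ _ _).trans ?_
      refine (congrArg fibPt hg).trans ?_
      refine (Scheme.Hom.comp_apply _ _ _).trans ?_
      exact (congrArg (bcFst f U) hφ).trans hz
  choose t ht using fun (V : X.Etale) (g : V ⟶ U) (hg : S g) => hg
  let x : Presieve.FamilyOfElements F.obj S.arrows := fun V g hg => t V g hg
  have hx : x.Compatible := by
    intro V₁ V₂ W g₁ g₂ f₁ f₂ h₁ h₂ e
    refine unitAt_injective f hf F W ?_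
    show unitAt f F W (F.obj.map g₁.op (t V₁ f₁ h₁)) = unitAt f F W (F.obj.map g₂.op (t V₂ f₂ h₂))
    rw [unitAt_map, unitAt_map, ht, ht, ← Functor.map_comp_apply, ← Functor.map_comp_apply, ← op_comp,
      ← op_comp, ← Functor.map_comp, ← Functor.map_comp, e]
  obtain ⟨T, hT, -⟩ := (((isSheaf_iff_isSheaf_of_type _ _).1
    ((Presheaf.isSheaf_iff_isSheaf_forget _ F.obj (forget _)).1 F.property)) _ hS) x hx
  refine ⟨T, eq_of_agree G fun z => ?_⟩
  have hS' := hS
  rw [EtSite.mem_et_iff] at hS'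
  obtain ⟨V, g, v, hg, hv⟩ := hS' (bcFst f U z)
  obtain ⟨w, hw, -⟩ := Scheme.exists_preimage_of_isPullback (EtCoh.isPullback_bc_map f g) z v hv.symm
  refine ⟨(EtCoh.bc f).obj V, (EtCoh.bc f).map g, ⟨w, hw⟩, ?_⟩
  exact (unitAt_map f F g T).symm.trans ((congrArg (unitAt f F V) (hT g hg)).trans (ht V g hg))

end Groth.Agent.EtDesc24
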