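import Groth.Prelude.Def_EtBCD
import Groth.Agent.Lib.EtDesc24.Subm
import Groth.Agent.Lib.EtStalk.Sets.Surjective
import Mathlib.CategoryTheory.Sites.LeftExact
import Mathlib.CategoryTheory.Limits.Types.Pullbacks

/-!
# Global sections of inverse images and the base change morphism
-/

universe u

open CategoryTheory CategoryTheory.Limits AlgebraicGeometry Opposite
open Groth.Agent.EtStalk

namespace Groth.Agent.EtDesc24

variable {X Y : Scheme.{u}}

lemma secPull_eq (f : X ⟶ Y) (F : EtDesc.Sh Y) (s : EtDesc.sect F (EtCoh.top Y)) :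
    EtDesc.secPull f F s =
      ((EtDesc.pullSh f).obj F).obj.map (EtCore.bcTopIso f).inv.op (unitAt f F (EtCoh.top Y) s) := rfl

lemma secPull_nat (f : X ⟶ Y) {F G : EtDesc.Sh Y} (a : F ⟶ G) (s : EtDesc.sect F (EtCoh.top Y)) :
    ((EtDesc.pullSh f).map a).hom.app (op (EtCoh.top X)) (EtDesc.secPull f F s) =
      EtDesc.secPull f G (a.hom.app (op (EtCoh.top Y)) s) := by
  rw [secPull_eq, secPull_eq, NatTrans.naturality_apply, unitAt_nat]

/-- Transport of global sections of a direct image. -/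
noncomputable def pushTop (f : X ⟶ Y) (G : EtDesc.Sh X) :
    EtDesc.sect ((EtDesc.pushSh f).obj G) (EtCoh.top Y) ≃ EtDesc.sect G (EtCoh.top X) :=
  (G.obj.mapIso (EtCore.bcTopIso f).op).symm.toEquiv

lemma pushTop_apply (f : X ⟶ Y) (G : EtDesc.Sh X) (s : EtDesc.sect ((EtDesc.pushSh f).obj G) (EtCoh.top Y)) :
    pushTop f G s = G.obj.map (EtCore.bcTopIso f).inv.op s := rfl

lemma mono_unit_of_surjective (f : X ⟶ Y) [Surjective f] (F : EtDesc.Sh Y) :
    Mono ((EtDesc.adjSh f).unit.app F) := by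
  refine (Sets.mono_iff_app_injective _).2 fun U s t h => Sets.ext_germ_comp (F := F) f s t fun Ω _ _ η x => ?_
  refine (ConcreteCategory.bijective_of_isIso (Sets.stalkPull f η F)).1 ?_
  rw [Sets.germ_stalkPull, Sets.germ_stalkPull]
  exact congrArg _ h

lemma secPull_injective_of_surjective (f : X ⟶ Y) [Surjective f] (F : EtDesc.Sh Y) :
    Function.Injective (EtDesc.secPull f F) := by
  intro s t h
  have := mono_unit_of_surjective f F
  exact ((Sets.mono_iff_app_injective ((EtDesc.adjSh f).unit.app F)).1 inferInstance (op (EtCoh.top Y)))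
    ((((EtDesc.pullSh f).obj F).obj.mapIso (EtCore.bcTopIso f).op).symm.toEquiv.injective h)

section Square

variable {Xb Yb : Scheme.{u}} {h : Y ⟶ X} {p : Xb ⟶ X} {hb : Yb ⟶ Xb} {pY : Yb ⟶ Y}

lemma pushCompSh_app {S T : Scheme.{u}} (f : S ⟶ X) (g : T ⟶ S) (G : EtDesc.Sh T) (V : X.Etale) :
    ∃ e : (EtCoh.bc (g ≫ f)).obj V ⟶ (EtCoh.bc g).obj ((EtCoh.bc f).obj V), ∀ x,
      ((EtDesc.pushCompSh f g).hom.app G).hom.app (op V) x = G.obj.map e.op x :=
  ⟨_, fun _ => rfl⟩

lemma pushCompSh_inv_app {S T : Scheme.{u}} (f : S ⟶ X) (g : T ⟶ S) (G : EtDesc.Sh T) (V : X.Etale) :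
    ∃ e : (EtCoh.bc g).obj ((EtCoh.bc f).obj V) ⟶ (EtCoh.bc (g ≫ f)).obj V, ∀ x,
      ((EtDesc.pushCompSh f g).inv.app G).hom.app (op V) x = G.obj.map e.op x :=
  ⟨_, fun _ => rfl⟩

lemma pushCongrSh_app {S : Scheme.{u}} {f f' : S ⟶ X} (w : f = f') (G : EtDesc.Sh S) (V : X.Etale) :
    ∃ e : (EtCoh.bc f').obj V ⟶ (EtCoh.bc f).obj V, ∀ x,
      ((EtBC.pushCongrSh w).hom.app G).hom.app (op V) x = G.obj.map e.op x :=
  ⟨_, fun _ => rfl⟩

/-- The base change morphism on the image of a global section. -/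
theorem baseChange0Sh_secPull (w : hb ≫ p = pY ≫ h) (Fb : EtDesc.Sh Xb)
    (s : EtDesc.sect ((EtDesc.pushSh p).obj Fb) (EtCoh.top X)) :
    pushTop pY _ ((EtBC.baseChange0Sh p h pY hb w Fb).hom.app (op (EtCoh.top Y))
      (EtDesc.secPull h ((EtDesc.pushSh p).obj Fb) s)) =
      EtDesc.secPull hb Fb (pushTop p Fb s) := by
  let G := (EtDesc.pullSh hb).obj Fb
  obtain ⟨e₁, he₁⟩ := pushCompSh_app p hb G (EtCoh.top X)
  obtain ⟨e₂, he₂⟩ := pushCongrSh_app w G (EtCoh.top X)
  obtain ⟨e₃, he₃⟩ := pushCompSh_inv_app h pY G (EtCoh.top X)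
  let m := (EtDesc.pushSh p).map ((EtDesc.adjSh hb).unit.app Fb) ≫ (EtDesc.pushCompSh p hb).hom.app _ ≫
    (EtBC.pushCongrSh w).hom.app _ ≫ (EtDesc.pushCompSh h pY).inv.app _
  have hm : (EtDesc.adjSh h).unit.app _ ≫ (EtDesc.pushSh h).map (EtBC.baseChange0Sh p h pY hb w Fb) = m :=
    (Adjunction.homEquiv_unit (EtDesc.adjSh h) _ _ _).symm.trans (Equiv.apply_symm_apply _ m)
  have h1 : (EtBC.baseChange0Sh p h pY hb w Fb).hom.app (op ((EtCoh.bc h).obj (EtCoh.top X)))
      (unitAt h _ (EtCoh.top X) s) =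
      G.obj.map e₃.op (G.obj.map e₂.op (G.obj.map e₁.op (unitAt hb Fb _ s))) := by
    refine (congrArg (fun t => t.hom.app (op (EtCoh.top X)) s) hm).trans ?_
    refine (he₃ _).trans (congrArg _ ((he₂ _).trans (congrArg _ (he₁ _))))
  rw [secPull_eq, NatTrans.naturality_apply, h1, pushTop_apply, pushTop_apply, secPull_eq, unitAt_map]
  change G.obj.map _ (G.obj.map ((EtCoh.bc pY).map (EtCore.bcTopIso h).inv).op _) = _
  simp only [← Functor.map_comp_apply, ← op_comp]
  refine congrArg (fun t => G.obj.map (Quiver.Hom.op t) (unitAt hb Fb _ s)) ?_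
  exact (IsTerminal.isTerminalObj (EtCoh.bc hb) _ (EtCore.bcTopIsTerminal p)).hom_ext _ _

/-- The base change morphism on the image of a global section under the unit. -/
theorem baseChange0Sh_unit_secPull (w : hb ≫ p = pY ≫ h) (F : EtDesc.Sh X)
    (s : EtDesc.sect F (EtCoh.top X)) :
    pushTop pY _ ((EtBC.baseChange0Sh p h pY hb w ((EtDesc.pullSh p).obj F)).hom.app (op (EtCoh.top Y))
      (((EtDesc.pullSh h).map ((EtDesc.adjSh p).unit.app F)).hom.app (op (EtCoh.top Y))
        (EtDesc.secPull h F s))) =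
      EtDesc.secPull hb _ (EtDesc.secPull p F s) := by
  refine Eq.trans ?_ (baseChange0Sh_secPull w ((EtDesc.pullSh p).obj F)
    (((EtDesc.adjSh p).unit.app F).hom.app (op (EtCoh.top X)) s))
  exact congrArg (fun x => pushTop pY _ ((EtBC.baseChange0Sh p h pY hb w _).hom.app
    (op (EtCoh.top Y)) x)) (secPull_nat h ((EtDesc.adjSh p).unit.app F) s)

end Square

/-- If inverse image is injective on global sections, a global section of the inverse image of a
subsheaf which comes from the ambient sheaf comes from the subsheaf. -/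
theorem mem_range_of_mono (h : Y ⟶ X) (hinj : ∀ F : EtDesc.Sh X, Function.Injective (EtDesc.secPull h F))
    {F G : EtDesc.Sh X} (a : F ⟶ G) [Mono a] (ξ : EtDesc.sect ((EtDesc.pullSh h).obj F) (EtCoh.top Y))
    (hξ : ((EtDesc.pullSh h).map a).hom.app (op (EtCoh.top Y)) ξ ∈ Set.range (EtDesc.secPull h G)) :
    ξ ∈ Set.range (EtDesc.secPull h F) := by
  obtain ⟨s, hs⟩ := hξ
  have hP := IsPushout.of_hasPushout a a
  have hB : IsPullback a a (pushout.inl a a) (pushout.inr a a) :=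
    Adhesive.isPullback_of_isPushout_of_mono_left hP
  have e : (pushout.inl a a).hom.app (op (EtCoh.top X)) s = (pushout.inr a a).hom.app (op (EtCoh.top X)) s := by
    refine hinj _ ?_
    rw [← secPull_nat, ← secPull_nat, hs]
    have := congrArg (fun m => ((EtDesc.pullSh h).map m).hom.app (op (EtCoh.top Y)) ξ) hP.w
    simpa using this
  obtain ⟨t, ht, -⟩ := Types.exists_of_isPullback
    (hB.map (sheafToPresheaf _ _ ⋙ (evaluation _ _).obj (op (EtCoh.top X)))) s s e
  refine ⟨t, ?_⟩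
  have := Sets.mono_pull_map h a
  refine (Sets.mono_iff_app_injective ((EtDesc.pullSh h).map a)).1 inferInstance (op (EtCoh.top Y)) ?_
  rw [secPull_nat, ← hs]
  exact congrArg _ ht

end Groth.Agent.EtDesc24
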