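import Groth.Agent.Lib.EtStalk.Sets.Push
import Groth.Agent.Lib.EtStalk.OpenImm

/-!
# Direct images of sheaves of sets along immersions
-/

universe u

open CategoryTheory CategoryTheory.Limits AlgebraicGeometry Opposite
open Groth.Agent.EtStalk

namespace Groth.Agent.EtDesc24

variable {X Y : Scheme.{u}}

section Terminal

variable {Ω : Type u} [Field Ω] [IsSepClosed Ω] (ξ : Spec (CommRingCat.of Ω) ⟶ X)

/-- A fibre of the final etale scheme. -/
noncomputable def topFib : fib ξ (EtCoh.top X) := Over.homMk ξ (Category.comp_id ξ)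

lemma stalk_unique_of_isTerminal {F : EtDesc.Sh X} (hF : IsTerminal F) :
    Nonempty (Unique ((Sets.stalk ξ).obj F)) := by
  have h : ∀ U : X.Etale, Nonempty (Unique (F.obj.obj (op U))) := fun U =>
    ⟨Types.isTerminalEquivUnique _
      ((hF.isTerminalObj (sheafToPresheaf _ _)).isTerminalObj ((evaluation _ _).obj (op U)))⟩
  obtain ⟨h0⟩ := h (EtCoh.top X)
  refine ⟨@uniqueOfSubsingleton _ ⟨fun p q => ?_⟩ (Sets.germ ξ F (topFib ξ) h0.default)⟩
  obtain ⟨V, x, s, t, rfl, rfl⟩ := GrothendieckTopology.Point.toPresheafFiber_jointly_surjective₂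
    (Scheme.pointSmallEtale ξ) (A := Type (u + 1)) (CC := fun X => X) (P := F.obj) p q
  obtain ⟨hV⟩ := h V
  rw [@Subsingleton.elim _ (@Unique.instSubsingleton _ hV) s t]

end Terminal

lemma isIso_terminal_from_iff_stalk (F : EtDesc.Sh X) :
    IsIso (terminal.from F) ↔ ∀ (Ω : Type u) [Field Ω] [IsSepClosed Ω] (ξ : Spec (CommRingCat.of Ω) ⟶ X),
      Nonempty (Unique ((Sets.stalk ξ).obj F)) := by
  constructor
  · intro h Ω _ _ ξ
    exact stalk_unique_of_isTerminal ξ (IsTerminal.ofIso terminalIsTerminal (asIso (terminal.from F)).symm)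
  · intro h
    rw [Sets.isIso_iff_stalk]
    intro Ω _ _ ξ
    obtain ⟨h1⟩ := h Ω ξ
    obtain ⟨h2⟩ := stalk_unique_of_isTerminal ξ (terminalIsTerminal (C := EtDesc.Sh X))
    exact ⟨fun a b _ => @Subsingleton.elim _ (@Unique.instSubsingleton _ h1) a b,
      fun b => ⟨h1.default, @Subsingleton.elim _ (@Unique.instSubsingleton _ h2) _ _⟩⟩

section Unit

variable (i : X ⟶ Y) [IsClosedImmersion i]

lemma isIso_unit_of_stalks (F : EtDesc.Sh Y)
    (hF : ∀ (Ω : Type u) [Field Ω] [IsSepClosed Ω] (ξ : Spec (CommRingCat.of Ω) ⟶ Y),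
      ξ (default : Spec (CommRingCat.of Ω)) ∉ Set.range i → Nonempty (Unique ((Sets.stalk ξ).obj F))) :
    IsIso ((EtDesc.adjSh i).unit.app F) := by
  rw [Sets.isIso_iff_stalk]
  intro Ω _ _ ξ
  by_cases h : ξ (default : Spec (CommRingCat.of Ω)) ∈ Set.range i
  · obtain ⟨ζ, rfl⟩ := exists_lift_point i ξ h
    rw [← ConcreteCategory.isIso_iff_bijective,
      show (Sets.stalk (ζ ≫ i)).map ((EtDesc.adjSh i).unit.app F) =
        Sets.stalkPull i ζ F ≫ inv (Sets.pushStalk i ζ ((EtDesc.pullSh i).obj F)) by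
          rw [IsIso.eq_comp_inv, Sets.unit_pushStalk]]
    infer_instance
  · obtain ⟨h1⟩ := hF Ω ξ h
    obtain ⟨h2⟩ := Sets.stalk_push_unique i ((EtDesc.pullSh i).obj F) ξ h
    exact ⟨fun a b _ => @Subsingleton.elim _ (@Unique.instSubsingleton _ h1) a b,
      fun b => ⟨h1.default, @Subsingleton.elim _ (@Unique.instSubsingleton _ h2) _ _⟩⟩

lemma fullyFaithful_pushSh_closed : (EtDesc.pushSh i).Full ∧ (EtDesc.pushSh i).Faithful :=
  ⟨(EtDesc.adjSh i).fullyFaithfulROfIsIsoCounit.full, (EtDesc.adjSh i).fullyFaithfulROfIsIsoCounit.faithful⟩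

theorem essImage_iff {U : Scheme.{u}} (j : U ⟶ Y) [IsOpenImmersion j]
    (hU : Set.range j = (Set.range i)ᶜ) (F : EtDesc.Sh Y) :
    (EtDesc.pushSh i).essImage F ↔ IsIso (terminal.from ((EtDesc.pullSh j).obj F)) := by
  rw [isIso_terminal_from_iff_stalk]
  constructor
  · rintro ⟨G, ⟨e⟩⟩ Ω _ _ ξ
    have hξ : (ξ ≫ j) (default : Spec (CommRingCat.of Ω)) ∉ Set.range i := by
      have h : (ξ ≫ j) (default : Spec (CommRingCat.of Ω)) ∈ Set.range j :=
        ⟨ξ default, (Scheme.Hom.comp_apply _ _ _).symm⟩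
      rw [hU] at h
      exact h
    obtain ⟨h1⟩ := Sets.stalk_push_unique i G (ξ ≫ j) hξ
    exact ⟨(((asIso (Sets.stalkPull j ξ F)).symm ≪≫ ((Sets.stalk (ξ ≫ j)).mapIso e).symm)).toEquiv.unique⟩
  · intro h
    refine ⟨(EtDesc.pullSh i).obj F, ⟨(@asIso _ _ _ _ ((EtDesc.adjSh i).unit.app F)
      (isIso_unit_of_stalks i F fun Ω _ _ ξ hξ => ?_)).symm⟩⟩
    have h1 : ξ (default : Spec (CommRingCat.of Ω)) ∈ Set.range j := by
      rw [hU]; exact hξ
    obtain ⟨ζ, rfl⟩ := exists_lift_point_open j ξ h1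
    obtain ⟨h2⟩ := h Ω ζ
    exact ⟨(asIso (Sets.stalkPull j ζ F)).toEquiv.unique⟩

end Unit

section Open

variable {U : Scheme.{u}} (j : U ⟶ X) [AlgebraicGeometry.Etale j]

/-- Restriction of sheaves of sets along an etale morphism is left adjoint to direct image. -/
noncomputable def restrShAdj :
    (EtShriek.compEtale j).sheafPushforwardContinuous (Type (u + 1)) U.smallEtaleTopology X.smallEtaleTopology ⊣
      EtDesc.pushSh j :=
  (compBcAdj j).sheafPushforwardContinuous U.smallEtaleTopology X.smallEtaleTopology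

variable [IsOpenImmersion j]

lemma isIso_restrShAdj_counit : IsIso (restrShAdj j).counit := by
  have hu : IsIso (compBcAdj j).unit := inferInstance
  rw [NatTrans.isIso_iff_isIso_app]
  intro F
  suffices IsIso ((sheafToPresheaf _ _).map ((restrShAdj j).counit.app F)) from
    isIso_of_reflects_iso _ (sheafToPresheaf _ _)
  rw [NatTrans.isIso_iff_isIso_app]
  intro V
  have : IsIso ((compBcAdj j).unit.app V.unop).op := inferInstance
  exact inferInstanceAs (IsIso (F.obj.map ((compBcAdj j).unit.app V.unop).op))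

/-- Direct image of sheaves of sets along an open immersion is fully faithful. -/
noncomputable def fullyFaithful_pushSh_open : (EtDesc.pushSh j).FullyFaithful :=
  have := isIso_restrShAdj_counit j
  (restrShAdj j).fullyFaithfulROfIsIsoCounit

end Open

theorem isIso_counit_immersion (f : X ⟶ Y) [IsImmersion f] (F : EtDesc.Sh X) :
    IsIso ((EtDesc.adjSh f).counit.app F) := by
  let hi := (EtDesc.adjSh f.liftCoborder).fullyFaithfulROfIsIsoCounit
  let hj := fullyFaithful_pushSh_open f.coborderRange.ι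
  let hc := (hi.comp hj).ofIso (EtDesc.pushCompSh f.coborderRange.ι f.liftCoborder)
  have hff : (EtDesc.pushSh f).FullyFaithful := hc.ofIso (eqToIso (by rw [f.liftCoborder_ι]))
  have := hff.full
  have := hff.faithful
  infer_instance

end Groth.Agent.EtDesc24
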