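import Groth.Prelude.Def_EtOpen
import Groth.Agent.Lib.EtStalk.OpenImm
import Groth.Agent.Lib.EtDesc24.SubSheaf

/-!
# Sheaves of sets on an open subscheme and subobjects of the final sheaf
-/

universe u

open CategoryTheory CategoryTheory.Limits AlgebraicGeometry Opposite
open Groth.Agent.EtStalk

namespace Groth.Agent.EtDesc24

variable {X : Scheme.{u}}

lemma hom_congr {A B : Scheme.{u}} {f g : A ⟶ B} (h : f = g) (x : A) : f x = g x := h ▸ rfl

/-- Morphisms out of the sheaf attached to an étale scheme are its sections. -/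
noncomputable def repHomEquiv (V : X.Etale) (F : EtDesc.Sh X) :
    (EtDesc.repSh V ⟶ F) ≃ F.obj.obj (op V) :=
  ((sheafificationAdjunction X.smallEtaleTopology (Type (u + 1))).homEquiv _ F).trans
    uliftYonedaEquiv.{u + 1}

/-- A section of the sheaf of an étale scheme over an object mapping to it. -/
noncomputable def repSec {U V : X.Etale} (g : V ⟶ U) : (EtDesc.repSh U).obj.obj (op V) :=
  (toSheafify X.smallEtaleTopology (yoneda.obj U ⋙ uliftFunctor.{u + 1})).app (op V) (ULift.up g)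

lemma range_subset_of_hom (U : X.Opens) {V : X.Etale} (g : V ⟶ EtDesc.ofOpen U) :
    Set.range V.hom ⊆ (U : Set X) := by
  rintro x ⟨v, rfl⟩
  have h : g.left ≫ U.ι = V.hom := MorphismProperty.Over.w g
  have : V.hom v = U.ι (g.left v) := (hom_congr h v).symm
  rw [this]
  exact (g.left v).2

/-- An étale scheme lying over an open maps to it. -/
noncomputable def liftOpen (U : X.Opens) {V : X.Etale} (h : Set.range V.hom ⊆ (U : Set X)) :
    V ⟶ EtDesc.ofOpen U :=
  let v : V.left ⟶ X := V.hom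
  let l : V.left ⟶ U.toScheme := IsOpenImmersion.lift U.ι v (h.trans (Scheme.Opens.range_ι U).ge)
  MorphismProperty.Over.homMk l (IsOpenImmersion.lift_fac U.ι v _)

lemma hom_ofOpen_eq (U : X.Opens) {V : X.Etale} (g g' : V ⟶ EtDesc.ofOpen U) : g = g' := by
  refine MorphismProperty.Over.Hom.ext ((cancel_mono U.ι).1 ?_)
  exact (MorphismProperty.Over.w g).trans (MorphismProperty.Over.w g').symm

lemma range_subset_of_rep (U : X.Opens) {V : X.Etale} (s : (EtDesc.repSh (EtDesc.ofOpen U)).obj.obj (op V)) :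
    Set.range V.hom ⊆ (U : Set X) := by
  rintro x ⟨v, rfl⟩
  have hS := Presheaf.imageSieve_mem X.smallEtaleTopology
    (toSheafify X.smallEtaleTopology (yoneda.obj (EtDesc.ofOpen U) ⋙ uliftFunctor.{u + 1})) (U := op V) s
  rw [EtSite.mem_et_iff] at hS
  obtain ⟨W, g, w, ⟨⟨t⟩, -⟩, hw⟩ := hS v
  refine range_subset_of_hom U t ⟨w, ?_⟩
  rw [← hw, ← Scheme.Hom.comp_apply]
  exact hom_congr (MorphismProperty.Over.w g).symm w

lemma subsingleton_rep (U : X.Opens) (V : X.Etale) :
    Subsingleton ((EtDesc.repSh (EtDesc.ofOpen U)).obj.obj (op V)) := by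
  refine ⟨fun s t => ?_⟩
  let η := toSheafify X.smallEtaleTopology (yoneda.obj (EtDesc.ofOpen U) ⋙ uliftFunctor.{u + 1})
  have hS := X.smallEtaleTopology.intersection_covering
    (Presheaf.imageSieve_mem X.smallEtaleTopology η (U := op V) s)
    (Presheaf.imageSieve_mem X.smallEtaleTopology η (U := op V) t)
  refine (((isSheaf_iff_isSheaf_of_type _ _).1 (EtDesc.repSh (EtDesc.ofOpen U)).property) _ hS).isSeparatedFor.ext
    fun W g ⟨⟨⟨a⟩, ha⟩, ⟨⟨b⟩, hb⟩⟩ => ?_
  exact ha.symm.trans (Eq.trans (by rw [hom_ofOpen_eq U a b]) hb)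

lemma mono_from_of_subsingleton (F : EtDesc.Sh X) (h : ∀ V : X.Etale, Subsingleton (F.obj.obj (op V))) :
    Mono (terminal.from F) := by
  refine ⟨fun a b _ => Sheaf.hom_ext (NatTrans.ext (funext fun V => ConcreteCategory.hom_ext _ _ fun s => ?_))⟩
  exact (h V.unop).elim _ _

lemma subsingleton_of_mono_from (F : EtDesc.Sh X) [Mono (terminal.from F)] (V : X.Etale) :
    Subsingleton (F.obj.obj (op V)) :=
  ⟨fun s t => (repHomEquiv V F).symm.injective
    ((cancel_mono (terminal.from F)).1 (Subsingleton.elim _ _))⟩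

theorem mono_rep_open (U : X.Opens) : Mono (terminal.from (EtDesc.repSh (EtDesc.ofOpen U))) :=
  mono_from_of_subsingleton _ (subsingleton_rep U)

theorem le_iff_nonempty_hom (U V : X.Opens) :
    U ≤ V ↔ Nonempty (EtDesc.repSh (EtDesc.ofOpen U) ⟶ EtDesc.repSh (EtDesc.ofOpen V)) := by
  have hU : Set.range (EtDesc.ofOpen U).hom = (U : Set X) := Scheme.Opens.range_ι U
  constructor
  · intro h
    exact ⟨(repHomEquiv _ _).symm (repSec (liftOpen V (hU.le.trans h)))⟩
  · rintro ⟨φ⟩
    exact fun x hx => range_subset_of_rep V (repHomEquiv _ _ φ) (hU.ge hx)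

theorem exists_open_iso (F : EtDesc.Sh X) [Mono (terminal.from F)] :
    ∃ U : X.Opens, Nonempty (F ≅ EtDesc.repSh (EtDesc.ofOpen U)) := by
  have hsub := subsingleton_of_mono_from F
  let U : X.Opens := ⟨⋃ (V : X.Etale) (_ : Nonempty (F.obj.obj (op V))), Set.range V.hom,
    isOpen_iUnion fun V => isOpen_iUnion fun _ => by
      have : AlgebraicGeometry.Etale V.hom := V.prop
      exact V.hom.isOpenMap.isOpen_range⟩
  have hle : ∀ V : X.Etale, Nonempty (F.obj.obj (op V)) → Set.range V.hom ⊆ (U : Set X) :=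
    fun V h x hx => Set.mem_iUnion₂.2 ⟨V, h, hx⟩
  let S : Sieve (EtDesc.ofOpen U) :=
    { arrows := fun V _ => Nonempty (F.obj.obj (op V))
      downward_closed := fun {_ _} _ ⟨s⟩ g => ⟨F.obj.map g.op s⟩ }
  have hS : S ∈ X.smallEtaleTopology (EtDesc.ofOpen U) := by
    rw [EtSite.mem_et_iff]
    intro x
    have hx : U.ι x ∈ (⋃ (V : X.Etale) (_ : Nonempty (F.obj.obj (op V))), Set.range V.hom) := x.2
    simp only [Set.mem_iUnion] at hx
    obtain ⟨V, hV, v, hv⟩ := hx
    refine ⟨V, liftOpen U (hle V hV), v, hV, U.ι.isOpenEmbedding.injective ?_⟩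
    exact ((Scheme.Hom.comp_apply _ _ _).symm.trans
      (hom_congr (MorphismProperty.Over.w (liftOpen U (hle V hV))) v)).trans hv
  let fam : Presieve.FamilyOfElements F.obj S.arrows := fun V g hg => hg.some
  obtain ⟨e, -, -⟩ := (((isSheaf_iff_isSheaf_of_type _ _).1 F.property) _ hS) fam
    (fun _ _ _ _ _ _ _ _ _ _ => (hsub _).elim _ _)
  let b : F ⟶ EtDesc.repSh (EtDesc.ofOpen U) := ⟨
    { app := fun V => ↾fun s => repSec (liftOpen U (hle V.unop ⟨s⟩))
      naturality := fun V W g => ConcreteCategory.hom_ext _ _ fun s => (subsingleton_rep U W.unop).elim _ _ }⟩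
  have := mono_rep_open U
  exact ⟨U, ⟨⟨b, (repHomEquiv _ F).symm e, (cancel_mono (terminal.from F)).1 (Subsingleton.elim _ _),
    (cancel_mono (terminal.from _)).1 (Subsingleton.elim _ _)⟩⟩⟩

section Equivalence

variable (U : X.Opens)

instance isIso_adjSh_counit : IsIso (EtDesc.adjSh U.ι).counit := by
  let adj := (compBcAdj U.ι).sheafPushforwardContinuous (E := Type (u + 1))
    U.toScheme.smallEtaleTopology X.smallEtaleTopology
  have hc : IsIso adj.counit := by
    have hu : IsIso (compBcAdj U.ι).unit := inferInstance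
    rw [NatTrans.isIso_iff_isIso_app]
    intro F
    suffices IsIso ((sheafToPresheaf _ _).map (adj.counit.app F)) from
      isIso_of_reflects_iso _ (sheafToPresheaf _ _)
    rw [NatTrans.isIso_iff_isIso_app]
    intro V
    have : IsIso ((compBcAdj U.ι).unit.app V.unop).op := inferInstance
    exact inferInstanceAs (IsIso (F.obj.map ((compBcAdj U.ι).unit.app V.unop).op))
  have h := adj.fullyFaithfulROfIsIsoCounit
  have : (EtDesc.pushSh U.ι).Full := h.full
  have : (EtDesc.pushSh U.ι).Faithful := h.faithful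
  infer_instance

variable {U}

/-- A geometric point with a germ of a sheaf over the open lies in the open. -/
lemma exists_lift_of_over {A : EtDesc.Sh X} (p : A ⟶ EtDesc.repSh (EtDesc.ofOpen U))
    {Ω : Type u} [Field Ω] [IsSepClosed Ω] {ξ : Spec (CommRingCat.of Ω) ⟶ X}
    {V : X.Etale} (x : fib ξ V) (s : A.obj.obj (op V)) : ∃ η, η ≫ U.ι = ξ := by
  have h := range_subset_of_rep U (p.hom.app (op V) s)
  have hw : x.left ≫ V.hom = ξ := Over.w x
  refine ⟨IsOpenImmersion.lift U.ι ξ ?_, IsOpenImmersion.lift_fac _ _ _⟩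
  rw [Scheme.Opens.range_ι]
  rintro z ⟨w, rfl⟩
  exact h ⟨x.left w, (Scheme.Hom.comp_apply _ _ _).symm.trans (hom_congr hw w)⟩

lemma eq_of_pull_eq {A B : EtDesc.Sh X} (p : A ⟶ EtDesc.repSh (EtDesc.ofOpen U)) (a b : A ⟶ B)
    (h : (EtDesc.pullSh U.ι).map a = (EtDesc.pullSh U.ι).map b) : a = b := by
  refine Sheaf.hom_ext (NatTrans.ext (funext fun V => ConcreteCategory.hom_ext _ _ fun s => ?_))
  obtain ⟨V⟩ := V
  refine Sets.ext_germ _ _ fun Ω _ _ ξ x => ?_
  obtain ⟨η, rfl⟩ := exists_lift_of_over p x s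
  rw [← Sets.germ_nat, ← Sets.germ_nat]
  have e : (Sets.stalk (η ≫ U.ι)).map a = (Sets.stalk (η ≫ U.ι)).map b := by
    rw [← cancel_mono (Sets.stalkPull U.ι η B), ← Sets.stalkPull_nat, ← Sets.stalkPull_nat, h]
  rw [e]

lemma bijective_unit {Ω : Type u} [Field Ω] [IsSepClosed Ω] (η : Spec (CommRingCat.of Ω) ⟶ U.toScheme)
    (B : EtDesc.Sh X) :
    Function.Bijective ((Sets.stalk (η ≫ U.ι)).map ((EtDesc.adjSh U.ι).unit.app B)) := by
  have : IsIso (Sets.pushStalk U.ι η ((EtDesc.pullSh U.ι).obj B)) := by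
    rw [← Sets.stalkPull_counit]
    infer_instance
  have h := Sets.unit_pushStalk U.ι η B
  rw [← ConcreteCategory.isIso_iff_bijective]
  rw [show (Sets.stalk (η ≫ U.ι)).map ((EtDesc.adjSh U.ι).unit.app B) =
    Sets.stalkPull U.ι η B ≫ inv (Sets.pushStalk U.ι η ((EtDesc.pullSh U.ι).obj B)) from by
      rw [IsIso.eq_comp_inv, h]]
  infer_instance

lemma exists_pull_map {A B : EtDesc.Sh X} (p : A ⟶ EtDesc.repSh (EtDesc.ofOpen U))
    (q : B ⟶ EtDesc.repSh (EtDesc.ofOpen U))
    (c : (EtDesc.pullSh U.ι).obj A ⟶ (EtDesc.pullSh U.ι).obj B) :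
    ∃ a : A ⟶ B, (EtDesc.pullSh U.ι).map a = c := by
  let unitB := (EtDesc.adjSh U.ι).unit.app B
  have : Mono unitB := by
    rw [Sets.mono_iff_stalk]
    intro Ω _ _ ξ z w h
    obtain ⟨V, x, s, rfl⟩ := Sets.germ_surjective ξ B z
    obtain ⟨η, rfl⟩ := exists_lift_of_over q x s
    exact (bijective_unit η B).1 h
  obtain ⟨a, ha⟩ := exists_factor unitB ((EtDesc.adjSh U.ι).homEquiv A _ c) fun V s v => by
    obtain ⟨φ, hφ⟩ := exists_fib V v
    obtain ⟨η, hη⟩ := exists_lift_of_over p φ s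
    revert φ
    rw [← hη]
    intro φ hφ
    rw [← (show fibPt φ = v from hφ), mem_inImage_iff_germ]
    exact (bijective_unit η B).2 _
  refine ⟨a, ((EtDesc.adjSh U.ι).homEquiv A _).injective ?_⟩
  rw [← ha, Adjunction.homEquiv_unit]
  exact ((EtDesc.adjSh U.ι).unit.naturality a).symm

/-- The sections of the direct image over objects lying over the open. -/
noncomputable def overOpenSub (G : EtDesc.Sh U.toScheme) : Subfunctor ((EtDesc.pushSh U.ι).obj G).obj where
  obj V := {_s | Set.range V.unop.hom ⊆ (U : Set X)}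
  map {V W} g s h := by
    rintro x ⟨w, rfl⟩
    refine h ⟨g.unop.left w, ?_⟩
    exact (Scheme.Hom.comp_apply _ _ _).symm.trans (hom_congr (MorphismProperty.Over.w g.unop) w)

lemma isSheaf_overOpenSub (G : EtDesc.Sh U.toScheme) :
    Presheaf.IsSheaf X.smallEtaleTopology (overOpenSub G).toFunctor := by
  rw [isSheaf_iff_isSheaf_of_type, Subfunctor.isSheaf_iff _
    ((isSheaf_iff_isSheaf_of_type _ _).1 ((EtDesc.pushSh U.ι).obj G).property)]
  rintro V s hs x ⟨v, rfl⟩
  rw [EtSite.mem_et_iff] at hs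
  obtain ⟨W, g, w, hg, hw⟩ := hs v
  refine (hg : Set.range W.hom ⊆ (U : Set X)) ⟨w, ?_⟩
  rw [← hw, ← Scheme.Hom.comp_apply]
  exact hom_congr (MorphismProperty.Over.w g).symm w

theorem exists_over_iso (G : EtDesc.Sh U.toScheme) :
    ∃ A : Over (EtDesc.repSh (EtDesc.ofOpen U)), Nonempty ((EtDesc.pullSh U.ι).obj A.left ≅ G) := by
  let A : EtDesc.Sh X := ⟨(overOpenSub G).toFunctor, isSheaf_overOpenSub G⟩
  let p : A ⟶ EtDesc.repSh (EtDesc.ofOpen U) := ⟨
    { app := fun V => ↾fun s => repSec (liftOpen U s.2)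
      naturality := fun V W g => ConcreteCategory.hom_ext _ _ fun s => (subsingleton_rep U W.unop).elim _ _ }⟩
  let incl : A ⟶ (EtDesc.pushSh U.ι).obj G := ⟨(overOpenSub G).ι⟩
  have hm : Mono incl := (Sets.mono_iff_app_injective _).2 fun _ _ _ h => Subtype.ext h
  have : IsIso ((EtDesc.pullSh U.ι).map incl) := by
    rw [Sets.isIso_iff_stalk]
    intro Ω _ _ η
    have hb : Function.Bijective ((Sets.stalk (η ≫ U.ι)).map incl) := by
      refine ⟨(Sets.mono_iff_stalk incl).1 hm Ω _, fun z => ?_⟩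
      obtain ⟨V, x, s, rfl⟩ := Sets.germ_surjective _ _ z
      let O : V.left.Opens := V.hom ⁻¹ᵁ U
      have hxO : fibPt x ∈ O := by
        refine (?_ : V.hom (fibPt x) ∈ U)
        have e := hom_congr (Over.w x) (default : Spec (CommRingCat.of Ω))
        have e' : V.hom (fibPt x) = U.ι (η default) :=
          ((Scheme.Hom.comp_apply _ _ _).symm.trans e).trans (Scheme.Hom.comp_apply _ _ _)
        exact e' ▸ (η default).2
      obtain ⟨y, hy⟩ := exists_fib_lift (EtSite.subHom V O) x ⟨⟨fibPt x, hxO⟩, rfl⟩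
      have ht : Set.range (EtSite.sub V O).hom ⊆ (U : Set X) := by
        rintro _ ⟨w, rfl⟩
        exact (Scheme.Hom.comp_apply _ _ _).symm ▸ w.2
      refine ⟨Sets.germ _ A y ⟨((EtDesc.pushSh U.ι).obj G).obj.map (EtSite.subHom V O).op s, ht⟩, ?_⟩
      rw [Sets.germ_nat]
      exact (Sets.germ_map _ _ (EtSite.subHom V O) y s).trans (congrArg (fun r => Sets.germ _ _ r s) hy)
    rw [← ConcreteCategory.isIso_iff_bijective] at hb ⊢
    rw [show (Sets.stalk η).map ((EtDesc.pullSh U.ι).map incl) =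
      inv (Sets.stalkPull U.ι η A) ≫ (Sets.stalk (η ≫ U.ι)).map incl ≫ Sets.stalkPull U.ι η _ from by
        rw [IsIso.eq_inv_comp, Sets.stalkPull_nat]]
    infer_instance
  exact ⟨Over.mk p, ⟨asIso ((EtDesc.pullSh U.ι).map incl) ≪≫ asIso ((EtDesc.adjSh U.ι).counit.app G)⟩⟩

theorem isEquivalence_pull_over :
    (Over.forget (EtDesc.repSh (EtDesc.ofOpen U)) ⋙ EtDesc.pullSh U.ι).IsEquivalence where
  faithful := ⟨fun {A B} a b h => Over.OverMorphism.ext (eq_of_pull_eq A.hom a.left b.left h)⟩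
  full := ⟨fun {A B} c => by
    obtain ⟨a, ha⟩ := exists_pull_map A.hom B.hom c
    have := mono_rep_open U
    exact ⟨Over.homMk a ((cancel_mono (terminal.from _)).1 (Subsingleton.elim _ _)), ha⟩⟩
  essSurj := ⟨fun G => exists_over_iso G⟩

end Equivalence

end Groth.Agent.EtDesc24
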