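import Groth.Prelude.Def_ProEtS
import Groth.Agent.Lib.EtStalk.Topological

/-!
# Continuity of the functors between the small étale and pro-étale sites
-/

universe u

open CategoryTheory CategoryTheory.Limits AlgebraicGeometry Opposite

set_option backward.isDefEq.respectTransparency.types false

namespace Groth.Agent.EtDesc24

variable {X Y : Scheme.{u}} (f : X ⟶ Y)

theorem isPullback_bcP_map {U V : Y.ProEt} (g : V ⟶ U) :
    IsPullback ((ProEtS.bcP f).map g).left (pullback.fst V.hom f : ((ProEtS.bcP f).obj V).left ⟶ V.left)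
      (pullback.fst U.hom f : ((ProEtS.bcP f).obj U).left ⟶ U.left) g.left := by
  have e1 : ((ProEtS.bcP f).map g).left ≫ pullback.snd U.hom f = pullback.snd V.hom f := by
    exact pullback.lift_snd _ _ _
  have e2 : g.left ≫ U.hom = V.hom := Over.w g.hom
  refine IsPullback.of_right (h₁₂ := pullback.snd U.hom f) (v₁₃ := f) (h₂₂ := U.hom) ?_ ?_
    (IsPullback.of_hasPullback U.hom f).flip
  · exact (congrArg₂ (fun a d => IsPullback a (pullback.fst V.hom f) f d) e1 e2).mpr
      (IsPullback.of_hasPullback V.hom f).flip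
  · exact pullback.lift_fst _ _ _

instance preservesFiniteLimits_bcP : PreservesFiniteLimits (ProEtS.bcP f) := by
  have h : PreservesFiniteLimits (ProEtS.bcP f ⋙ Scheme.ProEt.forget X) := by
    let e : ProEtS.bcP f ⋙ Scheme.ProEt.forget X ≅ Scheme.ProEt.forget Y ⋙ Over.pullback f :=
      MorphismProperty.Over.pullbackCompForgetIso (P := @WeaklyEtale) (Q := ⊤) f
    exact preservesFiniteLimits_of_natIso e.symm
  exact preservesFiniteLimits_of_reflects_of_preserves (ProEtS.bcP f) (Scheme.ProEt.forget X)

theorem bcP_mem_precoverage {U : Y.ProEt} (R : Presieve U) (hR : R ∈ Scheme.ProEt.precoverage Y U) :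
    R.map (ProEtS.bcP f) ∈ Scheme.ProEt.precoverage X ((ProEtS.bcP f).obj U) := by
  obtain ⟨ι, W, p, rfl⟩ := Presieve.exists_eq_ofArrows R
  have hR' : Presieve.map (Scheme.ProEt.forget Y ⋙ Over.forget Y) (Presieve.ofArrows W p) ∈
      Scheme.proetalePrecoverage ((Scheme.ProEt.forget Y ⋙ Over.forget Y).obj U) := hR
  rw [Presieve.map_ofArrows] at hR'
  show Presieve.map (Scheme.ProEt.forget X ⋙ Over.forget X) ((Presieve.ofArrows W p).map (ProEtS.bcP f)) ∈
    Scheme.proetalePrecoverage ((Scheme.ProEt.forget X ⋙ Over.forget X).obj ((ProEtS.bcP f).obj U))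
  rw [Presieve.map_ofArrows, Presieve.map_ofArrows]
  exact Precoverage.mem_coverings_of_isPullback _ hR' (pullback.fst U.hom f) _ _
    fun i => isPullback_bcP_map f (p i)

omit f in
theorem pullback_mem_precoverage {U Z : Y.ProEt} (g : Z ⟶ U) (R : Presieve U)
    (hR : R ∈ Scheme.ProEt.precoverage Y U) :
    ∃ R' : Presieve Z, R' ∈ Scheme.ProEt.precoverage Y Z ∧ R' ≤ ((Sieve.generate R).pullback g).arrows := by
  obtain ⟨ι, W, p, rfl⟩ := Presieve.exists_eq_ofArrows R
  refine ⟨Presieve.ofArrows (fun i => pullback g (p i)) (fun i => pullback.fst g (p i)), ?_, ?_⟩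
  · have hR' : Presieve.map (Scheme.ProEt.forget Y ⋙ Over.forget Y) (Presieve.ofArrows W p) ∈
        Scheme.proetalePrecoverage ((Scheme.ProEt.forget Y ⋙ Over.forget Y).obj U) := hR
    rw [Presieve.map_ofArrows] at hR'
    show Presieve.map (Scheme.ProEt.forget Y ⋙ Over.forget Y) _ ∈ Scheme.proetalePrecoverage _
    rw [Presieve.map_ofArrows]
    haveI : PreservesLimitsOfShape WalkingCospan (Scheme.ProEt.forget Y ⋙ Over.forget Y) :=
      comp_preservesLimitsOfShape _ _
    exact Precoverage.mem_coverings_of_isPullback _ hR' ((Scheme.ProEt.forget Y ⋙ Over.forget Y).map g) _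
      (fun i => (Scheme.ProEt.forget Y ⋙ Over.forget Y).map (pullback.snd g (p i)))
      fun i => (Scheme.ProEt.forget Y ⋙ Over.forget Y).map_isPullback (IsPullback.of_hasPullback g (p i))
  · rintro _ _ ⟨i⟩
    exact ⟨W i, pullback.snd g (p i), p i, ⟨i⟩, pullback.condition.symm⟩

theorem pCont : ProEtS.PCont f := by
  have : RepresentablyFlat (ProEtS.bcP f) := flat_of_preservesFiniteLimits _
  refine Functor.isContinuous_of_coverPreserving (compatiblePreservingOfFlat _ _) ⟨fun {U S} hS => ?_⟩
  suffices h : ∀ {Z : Y.ProEt} (g : Z ⟶ U), (S.pullback g).functorPushforward (ProEtS.bcP f) ∈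
      Scheme.ProEt.topology X ((ProEtS.bcP f).obj Z) by
    simpa using h (𝟙 U)
  induction hS with
  | of U R hR =>
    intro Z g
    refine GrothendieckTopology.superset_covering _ ?_
      (Precoverage.generate_mem_toGrothendieck (bcP_mem_precoverage f _ (pullback_mem_precoverage g R hR).choose_spec.1))
    rw [Sieve.generate_le_iff]
    rintro _ _ ⟨hk⟩
    exact Sieve.image_mem_functorPushforward _ _ ((pullback_mem_precoverage g R hR).choose_spec.2 _ _ hk)
  | top U =>
    intro Z g
    rw [Sieve.pullback_top, Sieve.functorPushforward_top]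
    exact GrothendieckTopology.top_mem _ _
  | pullback U S _ W k ih =>
    intro Z g
    rw [← Sieve.pullback_comp]
    exact ih (g ≫ k)
  | transitive U R S _ _ ih₁ ih₂ =>
    intro Z g
    refine GrothendieckTopology.transitive _ (ih₁ g) _ ?_
    rintro W k ⟨T, h, l, hh, rfl⟩
    rw [Sieve.pullback_comp]
    refine GrothendieckTopology.pullback_stable _ l ?_
    refine GrothendieckTopology.superset_covering _ ?_ (ih₂ hh (𝟙 T))
    rintro A a ⟨B, b, c, hb, rfl⟩
    refine ⟨B, b ≫ h, c, ?_, ?_⟩
    · show S ((b ≫ h) ≫ g)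
      simpa using hb
    · simp

variable (X)

theorem epsCont : ProEtS.EpsCont X := by
  have : PreservesFiniteLimits (ProEtS.eps X) := by
    have : PreservesFiniteLimits (ProEtS.eps X ⋙ Scheme.ProEt.forget X) :=
      inferInstanceAs (PreservesFiniteLimits (Scheme.Etale.forget X))
    exact preservesFiniteLimits_of_reflects_of_preserves (ProEtS.eps X) (Scheme.ProEt.forget X)
  have : RepresentablyFlat (ProEtS.eps X) := flat_of_preservesFiniteLimits _
  refine Functor.isContinuous_of_coverPreserving (compatiblePreservingOfFlat _ _) ⟨fun {U S} hS => ?_⟩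
  rw [EtSite.mem_et_iff] at hS
  choose V g v hg hv using hS
  refine GrothendieckTopology.superset_covering _ ?_ (Precoverage.generate_mem_toGrothendieck
    (R := Presieve.ofArrows (fun x => (ProEtS.eps X).obj (V x)) (fun x => (ProEtS.eps X).map (g x))) ?_)
  · rw [Sieve.generate_le_iff]
    rintro _ _ ⟨x⟩
    exact Sieve.image_mem_functorPushforward _ _ (hg x)
  · show Presieve.map (Scheme.ProEt.forget X ⋙ Over.forget X) _ ∈ Scheme.proetalePrecoverage _
    rw [Presieve.map_ofArrows]
    refine Scheme.etalePrecoverage_le_proetalePrecoverage _ ?_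
    refine (Scheme.ofArrows_mem_precoverage_iff _).2 ⟨fun y => ⟨y, v y, hv y⟩, fun x => ?_⟩
    exact EtStalk.etale_left (g x)

end Groth.Agent.EtDesc24
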