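import Groth.Agent.Lib.EtStalk.OpenImm
import Groth.Prelude.Def_W4c1etweilhu916Glue

/-!
# Recollement of abelian étale sheaves
-/

universe u

open CategoryTheory CategoryTheory.Limits AlgebraicGeometry Opposite
open Groth.Agent.EtStalk

namespace Groth.Agent.EtDesc24

variable {X Z U : Scheme.{u}} (i : Z ⟶ X) (j : U ⟶ X) [IsClosedImmersion i] [IsOpenImmersion j]
  (hZU : Set.range j = (Set.range i)ᶜ)

instance : IsIso (EtCoh.pullPushAdj j).counit := isIso_pullPush_counit j

include hZU in
lemma isIso_of_restrictions {F G : EtCoh.Ab X} (a : F ⟶ G) [IsIso ((EtCoh.pull i).map a)]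
    [IsIso ((EtCoh.pull j).map a)] : IsIso a := by
  rw [isIso_iff_stalk]
  intro Ω _ _ ξ
  rw [← ConcreteCategory.isIso_iff_bijective]
  by_cases h : ξ (default : Spec (CommRingCat.of Ω)) ∈ Set.range i
  · obtain ⟨ζ, rfl⟩ := exists_lift_point i ξ h
    rw [show (EtCoh.stalk (ζ ≫ i)).map a = stalkPull i ζ F ≫ (EtCoh.stalk ζ).map ((EtCoh.pull i).map a) ≫
      inv (stalkPull i ζ G) by rw [← Category.assoc, IsIso.eq_comp_inv, stalkPull_nat]]
    infer_instance
  · obtain ⟨ζ, rfl⟩ := exists_lift_point_open j ξ (by rw [hZU]; exact h)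
    rw [show (EtCoh.stalk (ζ ≫ j)).map a = stalkPull j ζ F ≫ (EtCoh.stalk ζ).map ((EtCoh.pull j).map a) ≫
      inv (stalkPull j ζ G) by rw [← Category.assoc, IsIso.eq_comp_inv, stalkPull_nat]]
    infer_instance

include hZU in
lemma hom_ext_of_restrictions {F G : EtCoh.Ab X} (a b : F ⟶ G) (hi : (EtCoh.pull i).map a = (EtCoh.pull i).map b)
    (hj : (EtCoh.pull j).map a = (EtCoh.pull j).map b) : a = b := by
  refine Sheaf.hom_ext (NatTrans.ext (funext fun V => ConcreteCategory.hom_ext _ _ fun s => ?_))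
  obtain ⟨V⟩ := V
  refine ext_germ _ _ fun Ω _ _ ξ x => ?_
  rw [← germ_nat, ← germ_nat]
  refine congrArg (fun t : (EtCoh.stalk ξ).obj F ⟶ (EtCoh.stalk ξ).obj G => t (germ ξ F x s)) ?_
  by_cases h : ξ (default : Spec (CommRingCat.of Ω)) ∈ Set.range i
  · obtain ⟨ζ, rfl⟩ := exists_lift_point i ξ h
    rw [← cancel_mono (stalkPull i ζ G), ← stalkPull_nat, ← stalkPull_nat, hi]
  · obtain ⟨ζ, rfl⟩ := exists_lift_point_open j ξ (by rw [hZU]; exact h)
    rw [← cancel_mono (stalkPull j ζ G), ← stalkPull_nat, ← stalkPull_nat, hj]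

include hZU in
lemma isZero_pull_push (G : EtCoh.Ab Z) : IsZero ((EtCoh.pull j).obj ((EtCoh.push i).obj G)) := by
  rw [isZero_iff_stalk]
  intro Ω _ _ ζ
  refine IsZero.of_iso (stalk_push_isZero i G (ζ ≫ j) ?_) (asIso (stalkPull j ζ _)).symm
  have h : (ζ ≫ j) (default : Spec (CommRingCat.of Ω)) ∈ Set.range j :=
    ⟨ζ default, (Scheme.Hom.comp_apply _ _ _).symm⟩
  rw [hZU] at h
  exact h

instance isIso_pull_unit (F : EtCoh.Ab X) : IsIso ((EtCoh.pull i).map ((EtCoh.pullPushAdj i).unit.app F)) := by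
  have h := (EtCoh.pullPushAdj i).left_triangle_components F
  have : IsIso ((EtCoh.pull i).map ((EtCoh.pullPushAdj i).unit.app F) ≫
      (EtCoh.pullPushAdj i).counit.app ((EtCoh.pull i).obj F)) := by rw [h]; exact IsIso.id _
  exact IsIso.of_isIso_comp_right _ ((EtCoh.pullPushAdj i).counit.app ((EtCoh.pull i).obj F))

instance isIso_pull_unit_open (F : EtCoh.Ab X) : IsIso ((EtCoh.pull j).map ((EtCoh.pullPushAdj j).unit.app F)) := by
  have h := (EtCoh.pullPushAdj j).left_triangle_components F
  have : IsIso ((EtCoh.pull j).map ((EtCoh.pullPushAdj j).unit.app F) ≫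
      (EtCoh.pullPushAdj j).counit.app ((EtCoh.pull j).obj F)) := by rw [h]; exact IsIso.id _
  exact IsIso.of_isIso_comp_right _ ((EtCoh.pullPushAdj j).counit.app ((EtCoh.pull j).obj F))

include hZU in
/-- A sheaf is glued from its restrictions. -/
lemma isPullback_units (F : EtCoh.Ab X) :
    IsPullback ((EtCoh.pullPushAdj i).unit.app F) ((EtCoh.pullPushAdj j).unit.app F)
      ((EtCoh.push i).map ((EtCoh.pull i).map ((EtCoh.pullPushAdj j).unit.app F)))
      ((EtCoh.pullPushAdj i).unit.app ((EtCoh.push j).obj ((EtCoh.pull j).obj F))) := by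
  have w := ((EtCoh.pullPushAdj i).unit.naturality ((EtCoh.pullPushAdj j).unit.app F)).symm
  dsimp only [Functor.id_obj, Functor.id_map, Functor.comp_obj, Functor.comp_map] at w
  let g := (EtCoh.push i).map ((EtCoh.pull i).map ((EtCoh.pullPushAdj j).unit.app F))
  let u := (EtCoh.pullPushAdj i).unit.app ((EtCoh.push j).obj ((EtCoh.pull j).obj F))
  let c : F ⟶ pullback g u := pullback.lift _ _ w
  have hi : IsIso ((EtCoh.pull i).map c) := by
    have h1 := ((IsPullback.of_hasPullback g u).map (EtCoh.pull i)).isIso_fst_of_isIso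
      (isIso_pull_unit i _)
    have : IsIso ((EtCoh.pull i).map c ≫ (EtCoh.pull i).map (pullback.fst g u)) := by
      rw [← Functor.map_comp, pullback.lift_fst]
      exact isIso_pull_unit i F
    exact IsIso.of_isIso_comp_right _ ((EtCoh.pull i).map (pullback.fst g u))
  have hj : IsIso ((EtCoh.pull j).map c) := by
    have h2 : IsIso ((EtCoh.pull j).map g) :=
      isIso_of_source_target_iso_zero _ (isZero_pull_push i j hZU _).isoZero (isZero_pull_push i j hZU _).isoZero
    have h1 := ((IsPullback.of_hasPullback g u).map (EtCoh.pull j)).isIso_snd_of_isIso h2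
    have : IsIso ((EtCoh.pull j).map c ≫ (EtCoh.pull j).map (pullback.snd g u)) := by
      rw [← Functor.map_comp, pullback.lift_snd]
      exact isIso_pull_unit_open j F
    exact IsIso.of_isIso_comp_right _ ((EtCoh.pull j).map (pullback.snd g u))
  haveI := isIso_of_restrictions i j hZU c
  exact IsPullback.of_iso_pullback ⟨w⟩ (asIso c) (pullback.lift_fst _ _ _) (pullback.lift_snd _ _ _)

include hZU in
theorem recollTriple_isEquivalence : (EtCore.recollTriple i j).IsEquivalence where
  faithful := ⟨fun {F G a b} h => hom_ext_of_restrictions i j hZU a b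
    (congrArg (fun t => CommaMorphism.left t) h) (congrArg (fun t => CommaMorphism.right t) h)⟩
  full := ⟨fun {F G} m => by
    have hsq := isPullback_units i j hZU G
    have hm : m.left ≫ (EtCoh.pull i).map ((EtCoh.pullPushAdj j).unit.app G) =
        (EtCoh.pull i).map ((EtCoh.pullPushAdj j).unit.app F) ≫
          (EtCoh.pull i).map ((EtCoh.push j).map m.right) := m.w
    let p : F ⟶ (EtCoh.push i).obj ((EtCoh.pull i).obj G) := ((EtCoh.pullPushAdj i).homEquiv _ _) m.left
    let q : F ⟶ (EtCoh.push j).obj ((EtCoh.pull j).obj G) := ((EtCoh.pullPushAdj j).homEquiv _ _) m.right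
    have hpq : p ≫ (EtCoh.push i).map ((EtCoh.pull i).map ((EtCoh.pullPushAdj j).unit.app G)) =
        q ≫ (EtCoh.pullPushAdj i).unit.app _ := by
      simp only [p, q, Adjunction.homEquiv_unit]
      rw [Category.assoc, ← Functor.map_comp]
      refine (congrArg (fun t => (EtCoh.pullPushAdj i).unit.app F ≫ (EtCoh.push i).map t)
        (hm.trans (Functor.map_comp _ _ _).symm)).trans ?_
      exact ((EtCoh.pullPushAdj i).unit.naturality _).symm
    refine ⟨hsq.lift p q hpq, ?_⟩
    refine CommaMorphism.ext ?_ ?_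
    · refine ((EtCoh.pullPushAdj i).homEquiv _ _).injective ?_
      refine Eq.trans ?_ (hsq.lift_fst p q hpq)
      rw [Adjunction.homEquiv_unit]
      exact ((EtCoh.pullPushAdj i).unit.naturality (hsq.lift p q hpq)).symm
    · refine ((EtCoh.pullPushAdj j).homEquiv _ _).injective ?_
      refine Eq.trans ?_ (hsq.lift_snd p q hpq)
      rw [Adjunction.homEquiv_unit]
      exact ((EtCoh.pullPushAdj j).unit.naturality (hsq.lift p q hpq)).symm⟩
  essSurj := ⟨fun T => by
    let φ : T.left ⟶ (EtCoh.pull i).obj ((EtCoh.push j).obj T.right) := T.hom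
    let a := (EtCoh.push i).map φ
    let b := (EtCoh.pullPushAdj i).unit.app ((EtCoh.push j).obj T.right)
    let P := pullback a b
    haveI h1 : IsIso ((EtCoh.pull i).map (pullback.fst a b)) :=
      ((IsPullback.of_hasPullback a b).map (EtCoh.pull i)).isIso_fst_of_isIso (isIso_pull_unit i _)
    haveI h2 : IsIso ((EtCoh.pull j).map (pullback.snd a b)) :=
      ((IsPullback.of_hasPullback a b).map (EtCoh.pull j)).isIso_snd_of_isIso
        (isIso_of_source_target_iso_zero _ (isZero_pull_push i j hZU _).isoZero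
          (isZero_pull_push i j hZU _).isoZero)
    let el := asIso ((EtCoh.pull i).map (pullback.fst a b) ≫ (EtCoh.pullPushAdj i).counit.app T.left)
    let er := asIso ((EtCoh.pull j).map (pullback.snd a b) ≫ (EtCoh.pullPushAdj j).counit.app T.right)
    refine ⟨P, ⟨Comma.isoMk el er ?_⟩⟩
    change ((EtCoh.pull i).map (pullback.fst a b) ≫ (EtCoh.pullPushAdj i).counit.app T.left) ≫ φ =
      (EtCoh.pull i).map ((EtCoh.pullPushAdj j).unit.app P) ≫ (EtCoh.pull i).map ((EtCoh.push j).map
        ((EtCoh.pull j).map (pullback.snd a b) ≫ (EtCoh.pullPushAdj j).counit.app T.right))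
    have hl : (EtCoh.pullPushAdj j).unit.app P ≫ (EtCoh.push j).map
        ((EtCoh.pull j).map (pullback.snd a b) ≫ (EtCoh.pullPushAdj j).counit.app T.right) =
        pullback.snd a b :=
      ((EtCoh.pullPushAdj j).homEquiv_unit _ _ _).symm.trans
        (((EtCoh.pullPushAdj j).homEquiv _ _).apply_eq_iff_eq_symm_apply.2
          ((EtCoh.pullPushAdj j).homEquiv_counit _ _ _).symm)
    rw [← Functor.map_comp, hl, Category.assoc]
    have hn := (EtCoh.pullPushAdj i).counit.naturality φ
    dsimp only [Functor.id_obj, Functor.id_map, Functor.comp_obj, Functor.comp_map] at hn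
    rw [← hn, ← Category.assoc, ← Functor.map_comp, pullback.condition, Functor.map_comp,
      Category.assoc]
    exact (congrArg (_ ≫ ·) ((EtCoh.pullPushAdj i).left_triangle_components _)).trans (Category.comp_id _)⟩

end Groth.Agent.EtDesc24
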