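import Groth.Agent.Lib.EtDesc24.Subm

/-!
# Consequences: sections, morphisms and subsheaves descend along universally submersive morphisms
-/

universe u

open CategoryTheory CategoryTheory.Limits AlgebraicGeometry Opposite
open Groth.Agent.EtStalk

namespace Groth.Agent.EtDesc24

variable {X' X : Scheme.{u}} (f : X' ⟶ X)

section Sections

variable {Ω : Type u} [Field Ω] [IsSepClosed Ω] {S : Scheme.{u}}

lemma fib_top_ext {ξ : Spec (CommRingCat.of Ω) ⟶ S} (a b : fib ξ (EtCoh.top S)) : a = b :=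
  Over.OverMorphism.ext ((Category.comp_id _).symm.trans ((Over.w a).trans
    ((Over.w b).symm.trans (Category.comp_id _))))

/-- The tautological element of the fibre of the final object. -/
noncomputable def topFib' (ξ : Spec (CommRingCat.of Ω) ⟶ S) : fib ξ (EtCoh.top S) :=
  Over.homMk ξ (Category.comp_id ξ)

lemma germ_secPull {T : Scheme.{u}} (p : T ⟶ S) (η : Spec (CommRingCat.of Ω) ⟶ T) (G : EtDesc.Sh S)
    (s : G.obj.obj (op (EtCoh.top S))) :
    Sets.germ η ((EtDesc.pullSh p).obj G) (topFib' η) (EtDesc.secPull p G s) =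
      Sets.stalkPull p η G (Sets.germ (η ≫ p) G (topFib' (η ≫ p)) s) := by
  rw [Sets.germ_stalkPull]
  refine (Sets.germ_map η ((EtDesc.pullSh p).obj G) (EtCore.bcTopIso p).inv (topFib' η) _).trans ?_
  refine congrArg (fun z => Sets.germ η ((EtDesc.pullSh p).obj G) z
    (((EtDesc.adjSh p).unit.app G).hom.app (op (EtCoh.top S)) s)) (Over.OverMorphism.ext ?_)
  refine pullback.hom_ext ?_ ((Over.w _).trans (Over.w (liftFib p η (topFib' (η ≫ p)))).symm)
  refine Eq.trans ?_ (pullback.lift_fst _ _ _).symm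
  have hid : pullback.fst (EtCoh.top S).hom p = pullback.snd (EtCoh.top S).hom p ≫ p :=
    (Category.comp_id _).symm.trans pullback.condition
  refine (congrArg (_ ≫ ·) hid).trans ((Category.assoc _ _ _).symm.trans ?_)
  exact congrArg (· ≫ p) (Over.w _)

lemma secPull_unit_eq (F : EtDesc.Sh X) (t : F.obj.obj (op (EtCoh.top X))) :
    EtDesc.secPull f F t =
      ((EtDesc.pullSh f).obj F).obj.map (EtCore.bcTopIso f).inv.op (unitAt f F (EtCoh.top X) t) := rfl

lemma germ_bcTop (G : EtDesc.Sh X') {ξ : Spec (CommRingCat.of Ω) ⟶ X'}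
    (x : fib ξ ((EtCoh.bc f).obj (EtCoh.top X))) (s : G.obj.obj (op (EtCoh.top X'))) :
    Sets.germ ξ G x (G.obj.map (EtCore.bcTopIso f).hom.op s) = Sets.germ ξ G (topFib' ξ) s :=
  (Sets.germ_map ξ G (EtCore.bcTopIso f).hom x s).trans
    (congrArg (fun z => Sets.germ ξ G z s) (fib_top_ext _ _))

lemma germ_app_secPull {T S₁ S₂ : Scheme.{u}} (p₁ : T ⟶ S₁) (p₂ : T ⟶ S₂) (G₁ : EtDesc.Sh S₁) (G₂ : EtDesc.Sh S₂)
    (c : (EtDesc.pullSh p₁).obj G₁ ⟶ (EtDesc.pullSh p₂).obj G₂) (η : Spec (CommRingCat.of Ω) ⟶ T)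
    (s₁ : G₁.obj.obj (op (EtCoh.top S₁))) (s₂ : G₂.obj.obj (op (EtCoh.top S₂))) :
    Sets.germ η ((EtDesc.pullSh p₂).obj G₂) (topFib' η) (c.hom.app (op (EtCoh.top T)) (EtDesc.secPull p₁ G₁ s₁)) =
        Sets.germ η ((EtDesc.pullSh p₂).obj G₂) (topFib' η) (EtDesc.secPull p₂ G₂ s₂) ↔
      (Sets.stalk η).map c (Sets.stalkPull p₁ η G₁ (Sets.germ (η ≫ p₁) G₁ (topFib' (η ≫ p₁)) s₁)) =
        Sets.stalkPull p₂ η G₂ (Sets.germ (η ≫ p₂) G₂ (topFib' (η ≫ p₂)) s₂) := by
  rw [← Sets.germ_nat, germ_secPull, germ_secPull]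

lemma rel_unit_top (F : EtDesc.Sh X) (η : Spec (CommRingCat.of Ω) ⟶ EtDesc.X2 f)
    (t : F.obj.obj (op (EtCoh.top X))) :
    Rel f F η (Sets.germ _ _ (topFib' _) (EtDesc.secPull f F t)) (Sets.germ _ _ (topFib' _) (EtDesc.secPull f F t)) := by
  rw [secPull_unit_eq, Sets.germ_map, Sets.germ_map]
  refine rel_unit f F η _ _ ?_ t
  have hb : ∀ {ξ : Spec (CommRingCat.of Ω) ⟶ X'} (z : fib ξ ((EtCoh.bc f).obj (EtCoh.top X))),
      z.left ≫ bcFst f (EtCoh.top X) = ξ ≫ f := fun {ξ} z =>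
    (Category.comp_id _).symm.trans ((Category.assoc _ _ _).trans
      ((congrArg (z.left ≫ ·) pullback.condition).trans
        ((Category.assoc _ _ _).symm.trans (congrArg (· ≫ f) (Over.w z)))))
  exact (hb _).trans ((Category.assoc _ _ _).trans ((congrArg (η ≫ ·) pullback.condition).trans
    ((Category.assoc _ _ _).symm.trans (hb _).symm)))

lemma map_hom_inv {T : Scheme.{u}} (G : EtDesc.Sh T) {U V : T.Etale} (e : U ≅ V) (s : G.obj.obj (op U)) :
    G.obj.map e.hom.op (G.obj.map e.inv.op s) = s := by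
  rw [← Functor.map_comp_apply, ← op_comp, Iso.hom_inv_id, op_id, CategoryTheory.Functor.map_id]
  rfl

lemma map_inv_hom {T : Scheme.{u}} (G : EtDesc.Sh T) {U V : T.Etale} (e : U ≅ V) (s : G.obj.obj (op V)) :
    G.obj.map e.inv.op (G.obj.map e.hom.op s) = s := by
  rw [← Functor.map_comp_apply, ← op_comp, Iso.inv_hom_id, op_id, CategoryTheory.Functor.map_id]
  rfl

lemma secPull_injective (hf : EtDesc.IsUnivSubmersive f) (F : EtDesc.Sh X) :
    Function.Injective (EtDesc.secPull f F) := fun a b h =>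
  unitAt_injective f hf F _ ((map_hom_inv _ (EtCore.bcTopIso f) _).symm.trans
    ((congrArg (((EtDesc.pullSh f).obj F).obj.map (EtCore.bcTopIso f).hom.op) h).trans
      (map_hom_inv _ (EtCore.bcTopIso f) _)))

lemma eq_of_rel_top (F : EtDesc.Sh X) {T : Scheme.{u}} (p₁ p₂ : T ⟶ X')
    (c : (EtDesc.pullSh p₁).obj ((EtDesc.pullSh f).obj F) ⟶ (EtDesc.pullSh p₂).obj ((EtDesc.pullSh f).obj F))
    (s : ((EtDesc.pullSh f).obj F).obj.obj (op (EtCoh.top X')))
    (h : ∀ (Ω : Type u) [Field Ω] [IsSepClosed Ω] (η : Spec (CommRingCat.of Ω) ⟶ T),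
      (Sets.stalk η).map c (Sets.stalkPull p₁ η _ (Sets.germ (η ≫ p₁) _ (topFib' (η ≫ p₁)) s)) =
        Sets.stalkPull p₂ η _ (Sets.germ (η ≫ p₂) _ (topFib' (η ≫ p₂)) s)) :
    c.hom.app (op (EtCoh.top T)) (EtDesc.secPull p₁ _ s) = EtDesc.secPull p₂ _ s := by
  refine Sets.ext_germ _ _ fun Ω _ _ η x => ?_
  obtain rfl := fib_top_ext x (topFib' η)
  exact (germ_app_secPull p₁ p₂ _ _ c η _ _).2 (h Ω η)

lemma rel_top_of_eq (F : EtDesc.Sh X) {T : Scheme.{u}} (p₁ p₂ : T ⟶ X')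
    (c : (EtDesc.pullSh p₁).obj ((EtDesc.pullSh f).obj F) ⟶ (EtDesc.pullSh p₂).obj ((EtDesc.pullSh f).obj F))
    (s : ((EtDesc.pullSh f).obj F).obj.obj (op (EtCoh.top X')))
    (h : c.hom.app (op (EtCoh.top T)) (EtDesc.secPull p₁ _ s) = EtDesc.secPull p₂ _ s)
    (η : Spec (CommRingCat.of Ω) ⟶ T)
    (x₁ : fib (η ≫ p₁) ((EtCoh.bc f).obj (EtCoh.top X))) (x₂ : fib (η ≫ p₂) ((EtCoh.bc f).obj (EtCoh.top X))) :
    (Sets.stalk η).map c (Sets.stalkPull p₁ η _ (Sets.germ (η ≫ p₁) _ x₁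
        (((EtDesc.pullSh f).obj F).obj.map (EtCore.bcTopIso f).hom.op s))) =
      Sets.stalkPull p₂ η _ (Sets.germ (η ≫ p₂) _ x₂
        (((EtDesc.pullSh f).obj F).obj.map (EtCore.bcTopIso f).hom.op s)) := by
  rw [germ_bcTop, germ_bcTop]
  exact (germ_app_secPull p₁ p₂ _ _ c η s s).1 (congrArg _ h)

/-- Passage between the two spellings of `X' ×_X X'`, with an opaque morphism. -/
lemma app_top_X2 (G : EtDesc.Sh X')
    (c : (EtDesc.pullSh (pullback.fst f f)).obj G ⟶ (EtDesc.pullSh (pullback.snd f f)).obj G)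
    (s : G.obj.obj (op (EtCoh.top X'))) :
    (c.hom.app (op (EtCoh.top (EtDesc.X2 f))) (EtDesc.secPull (pullback.fst f f) G s) =
        EtDesc.secPull (pullback.snd f f) G s) ↔
      (c.hom.app (op (EtCoh.top (pullback f f))) (EtDesc.secPull (pullback.fst f f) G s) =
        EtDesc.secPull (pullback.snd f f) G s) := Iff.rfl

lemma compat_of_eq (F : EtDesc.Sh X)
    (s' : ((EtDesc.pullSh f).obj F).obj.obj (op (EtCoh.top X')))
    (hs : (EtDesc.canIso f F).hom.hom.app (op (EtCoh.top (pullback f f)))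
          (EtDesc.secPull (pullback.fst f f) ((EtDesc.pullSh f).obj F) s') =
        EtDesc.secPull (pullback.snd f f) ((EtDesc.pullSh f).obj F) s') :
    Compat f F (U := EtCoh.top X) (((EtDesc.pullSh f).obj F).obj.map (EtCore.bcTopIso f).hom.op s') :=
  fun Ω _ _ η x₁ x₂ _ => rel_top_of_eq f F _ _ (EtDesc.canIso f F).hom s' hs η x₁ x₂

theorem sections_equalizer (hf : EtDesc.IsUnivSubmersive f) (F : EtDesc.Sh X) :
    Function.Injective (EtDesc.secPull f F) ∧
    Set.range (EtDesc.secPull f F) =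
      {s' | (EtDesc.canIso f F).hom.hom.app (op (EtCoh.top (EtDesc.X2 f)))
          (EtDesc.secPull (pullback.fst f f) ((EtDesc.pullSh f).obj F) s') =
        EtDesc.secPull (pullback.snd f f) ((EtDesc.pullSh f).obj F) s'} := by
  refine ⟨secPull_injective f hf F, Set.ext fun s' => ⟨?_, fun hs => ?_⟩⟩
  · rintro ⟨t, rfl⟩
    exact (app_top_X2 f _ (EtDesc.canIso f F).hom _).2
      (eq_of_rel_top f F _ _ (EtDesc.canIso f F).hom _ fun Ω _ _ η => rel_unit_top f F η t)
  · obtain ⟨t, ht⟩ := exists_unitAt_eq f hf F _ 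
      (compat_of_eq f F s' ((app_top_X2 f _ (EtDesc.canIso f F).hom s').1 hs))
    refine ⟨t, ?_⟩
    rw [secPull_unit_eq, ht]
    exact map_inv_hom _ (EtCore.bcTopIso f) s'

end Sections

theorem existsUnique_descend (hf : EtDesc.IsUnivSubmersive f) (F G : EtDesc.Sh X)
    (a : (EtDesc.pullSh f).obj F ⟶ (EtDesc.pullSh f).obj G)
    (ha : (EtDesc.canIso f F).hom ≫ (EtDesc.pullSh (pullback.snd f f)).map a =
      (EtDesc.pullSh (pullback.fst f f)).map a ≫ (EtDesc.canIso f G).hom) :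
    ∃! b : F ⟶ G, (EtDesc.pullSh f).map b = a := by
  have h : ∀ (U : X.Etale) (s : F.obj.obj (op U)),
      ∃ t, unitAt f G U t = a.hom.app (op ((EtCoh.bc f).obj U)) (unitAt f F U s) := fun U s => by
    refine exists_unitAt_eq f hf G _ fun Ω _ _ η x₁ x₂ hx => ?_
    rw [← Sets.germ_nat, ← Sets.germ_nat]
    exact rel_map f a ha (rel_unit f F η x₁ x₂ hx s)
  choose t ht using h
  let b : F ⟶ G := ⟨
    { app := fun U => ↾(t U.unop)
      naturality := fun U V g => ConcreteCategory.hom_ext _ _ fun s => by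
        refine unitAt_injective f hf G V.unop ?_
        show unitAt f G V.unop (t V.unop (F.obj.map g s)) = unitAt f G V.unop (G.obj.map g.unop.op (t U.unop s))
        rw [ht]
        refine Eq.trans ?_ (unitAt_map f G g.unop (t U.unop s)).symm
        refine Eq.trans ?_ (congrArg _ (ht U.unop s)).symm
        refine Eq.trans ?_ (NatTrans.naturality_apply a.hom ((EtCoh.bc f).map g.unop).op _)
        exact congrArg (a.hom.app _) (unitAt_map f F g.unop s) }⟩
  haveI := surjective_of_univSubmersive f hf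
  haveI := Sets.faithful_pull f
  have hb : (EtDesc.pullSh f).map b = a := by
    refine ((EtDesc.adjSh f).homEquiv _ _).injective ?_
    rw [Adjunction.homEquiv_unit, Adjunction.homEquiv_unit]
    refine Sheaf.hom_ext (NatTrans.ext (funext fun U => ConcreteCategory.hom_ext _ _ fun s => ?_))
    obtain ⟨U⟩ := U
    exact (unitAt_nat f b U s).trans (ht U s)
  exact ⟨b, hb, fun b' hb' => (EtDesc.pullSh f).map_injective (hb'.trans hb.symm)⟩

end Groth.Agent.EtDesc24
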